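import Cfsg.Agent.Lib.AltCentInv.Shape
import Cfsg.Agent.Lib.AltCover.Involutions
import Cfsg.Agent.Lib.McLChar.Cover
import Cfsg.Agent.Lib.McLChar.Bound

/-!
Degrees nine and ten: the centraliser agrees with the one of the McLaughlin group near the groups of order 16.
-/

set_option autoImplicit false
set_option linter.unusedSectionVars false
set_option maxRecDepth 100000

namespace CfsgAltCentInv

open Equiv Subgroup
open CfsgMcLChar CfsgLib.McLInvol

variable {G : Type*} [Group G] [Finite G] {z : G} {n : ℕ}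

/-- The lifts of the permutations of the first eight points. -/
def eightSub {E : Type*} [Group E] (π : E →* Perm (Fin n)) : Subgroup E where
  carrier := {x | ∀ i : Fin n, 8 ≤ (i : ℕ) → π x i = i}
  one_mem' := fun i _ => by simp
  mul_mem' := fun {a b} ha hb i hi => by rw [map_mul, Perm.mul_apply, hb i hi, ha i hi]
  inv_mem' := fun {a} ha i hi => by rw [map_inv, Perm.inv_eq_iff_eq, ha i hi]

theorem card_high (hn : 8 ≤ n) : (Finset.univ.filter fun i : Fin n => 8 ≤ (i : ℕ)).card = n - 8 := by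
  rcases Nat.lt_or_ge 8 n with h | h
  · rw [show (Finset.univ.filter fun i : Fin n => 8 ≤ (i : ℕ)) = Finset.Ici ⟨8, h⟩ by
      ext i; simp [Fin.le_def], Fin.card_Ici]
  · have : n = 8 := le_antisymm h hn
    subst this
    rfl

variable {E : Type*} [Group E] [Finite E] {π : E →* Perm (Fin n)} {zE : E}

theorem Cov.eight_model (h : Cov π zE) (hn : 8 ≤ n) :
    ∃ ψ : Cent →* E, Function.Injective ψ ∧ ψ.range = eightSub π ∧ ψ tauC = zE := by
  classical
  let p : Fin n → Prop := fun i => (i : ℕ) < 8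
  let e8 : {i : Fin n // p i} ≃ Fin 8 :=
    { toFun := fun i => ⟨i.1, i.2⟩
      invFun := fun i => ⟨⟨i, by omega⟩, i.2⟩
      left_inv := fun i => rfl
      right_inv := fun i => rfl }
  have hd : ∀ x ∈ eightSub π, ∀ i, π x i ≠ i → p i := fun x hx i hi => by
    by_contra hp
    exact hi (hx i (Nat.not_lt.mp hp))
  have hinv : ∀ x ∈ eightSub π, ∀ i, p (π x i) ↔ p i := fun x hx i => by
    by_cases hi : π x i = i
    · rw [hi]
    · exact iff_of_true (hd x hx _ fun e => hi ((π x).injective e)) (hd x hx i hi)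
  let r : eightSub π →* Perm (Fin 8) :=
    { toFun := fun x => e8.permCongr ((π x.1).subtypePerm (hinv x.1 x.2))
      map_one' := Equiv.ext fun i => Fin.ext (by simp [Equiv.permCongr_apply, e8])
      map_mul' := fun x y => Equiv.ext fun i => Fin.ext (by simp [Equiv.permCongr_apply, e8]) }
  have hr : ∀ x, r x ∈ alternatingGroup (Fin 8) := fun x => by
    show e8.permCongr _ ∈ _
    rw [Perm.mem_alternatingGroup, Perm.sign_permCongr, Perm.sign_subtypePerm _ _ (hd x.1 x.2), h.cover.even]
  let ρ : eightSub π →* alternatingGroup (Fin 8) := r.codRestrict _ hr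
  have hker : ∀ x, ρ x = 1 ↔ ((x : E) = 1 ∨ (x : E) = zE) := fun x => by
    rw [← h.ker]
    constructor
    · intro hx
      have hrx : r x = 1 := congrArg Subtype.val hx
      ext i : 1
      by_cases hp : p i
      · have := Perm.congr_fun hrx (e8 ⟨i, hp⟩)
        simp only [r, MonoidHom.coe_mk, OneHom.coe_mk, Equiv.permCongr_apply, Equiv.symm_apply_apply,
          Perm.one_apply] at this
        exact congrArg Subtype.val (e8.injective this)
      · exact x.2 i (Nat.not_lt.mp hp)
    · intro hx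
      refine Subtype.ext (Equiv.ext fun i => Fin.ext ?_)
      simp [ρ, r, Equiv.permCongr_apply, e8, hx]
  have honto : Function.Surjective ρ := fun σ => by
    obtain ⟨g, hg⟩ := h.cover.onto (Perm.ofSubtype (e8.symm.permCongr (σ : Perm (Fin 8))))
      (by rw [Perm.sign_ofSubtype, Perm.sign_permCongr]; exact Perm.mem_alternatingGroup.mp σ.2)
    have hgm : g ∈ eightSub π := fun i hi => by
      rw [hg]; exact Perm.ofSubtype_apply_of_not_mem _ (Nat.not_lt.mpr hi)
    refine ⟨⟨g, hgm⟩, Subtype.ext (Equiv.ext fun i => ?_)⟩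
    show e8 ((π g).subtypePerm (hinv g hgm) (e8.symm i)) = _
    rw [show (π g).subtypePerm (hinv g hgm) (e8.symm i) = e8.symm ((σ : Perm (Fin 8)) i) from Subtype.ext (by
      show π g ((e8.symm i : {i : Fin n // p i}) : Fin n) = _
      rw [hg, Perm.ofSubtype_apply_coe, Equiv.permCongr_apply]
      simp), Equiv.apply_symm_apply]
  have hzm : zE ∈ eightSub π := fun i _ => by rw [h.pi_z]; rfl
  have hcen : center (eightSub π) = ρ.ker := by
    ext x
    constructor
    · intro hx
      have hc : ρ x ∈ center (alternatingGroup (Fin 8)) := Subgroup.mem_center_iff.mpr fun σ => by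
        obtain ⟨y, rfl⟩ := honto σ
        rw [← map_mul, ← map_mul, Subgroup.mem_center_iff.mp hx y]
      rwa [alternatingGroup.center_eq_bot (by simp), Subgroup.mem_bot] at hc
    · intro hx
      rw [Subgroup.mem_center_iff]
      intro y
      refine Subtype.ext ?_
      rcases (hker x).mp hx with e | e
      · simp [e]
      · show (y : E) * x = x * y
        rw [e, h.z_cen]
  have hker2 : ρ.ker = zpowers (⟨zE, hzm⟩ : eightSub π) := by
    ext x
    rw [MonoidHom.mem_ker, hker]
    constructor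
    · rintro (e | e)
      · rw [show x = 1 from Subtype.ext e]; exact one_mem _
      · rw [show x = ⟨zE, hzm⟩ from Subtype.ext e]; exact mem_zpowers _
    · intro hx
      obtain ⟨k, rfl⟩ := Subgroup.mem_zpowers_iff.mp hx
      rcases Int.even_or_odd k with ⟨j, rfl⟩ | ⟨j, rfl⟩
      · left
        rw [Subgroup.coe_zpow, ← two_mul, zpow_mul, zpow_two, h.z_sq, one_zpow]
      · right
        rw [Subgroup.coe_zpow, zpow_add, zpow_mul, zpow_two, h.z_sq, one_zpow, one_mul, zpow_one]
  have hzo : orderOf (⟨zE, hzm⟩ : eightSub π) = 2 := by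
    rw [← Subgroup.orderOf_coe]
    exact orderOf_eq_prime (by rw [pow_two]; exact h.z_sq) h.ne
  have hcov : Cfsg.IsNonsplitDoubleCover (eightSub π) (alternatingGroup (Fin 8)) := by
    refine ⟨by rw [hcen, hker2, Nat.card_zpowers, hzo], ⟨(QuotientGroup.quotientMulEquivOfEq hcen).trans
      (QuotientGroup.quotientKerEquivOfSurjective ρ honto)⟩, fun L hL => ?_⟩
    let q : Fin 4 → Fin n := fun i => ⟨i, by omega⟩
    have hnd : [q 0, q 1, q 2, q 3].Nodup := by simp [q]
    obtain ⟨Q, hQ⟩ := h.cover.onto (dbl (q 0) (q 1) (q 2) (q 3)) (sign_dbl hnd)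
    have hQm : Q ∈ eightSub π := fun i hi => by
      have : ∀ j : Fin 4, i ≠ q j := fun j e => by simp [e, q] at hi; omega
      rw [hQ, dbl, Perm.mul_apply, swap_apply_of_ne_of_ne (this 2) (this 3), swap_apply_of_ne_of_ne (this 0) (this 1)]
    obtain ⟨⟨u, l⟩, hul⟩ := (hL.existsUnique ⟨Q, hQm⟩).exists
    have hu : (u : eightSub π) ∈ ρ.ker := hcen ▸ u.2
    have hcom : Commute ((u : eightSub π) : E) ((l : eightSub π) : E) := by
      rcases (hker u).mp hu with e | e <;> rw [e]
      exacts [Commute.one_left _, h.z_comm _]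
    have hl2 : ((l : eightSub π) : E) * (l : eightSub π) = zE := by
      have hmul : ((u : eightSub π) : E) * (l : eightSub π) = Q := congrArg Subtype.val hul
      rw [← h.dbl_sq hnd hQ, ← hmul, hcom.symm.mul_mul_mul_comm]
      rcases (hker u).mp hu with e | e <;> rw [e]
      · simp
      · rw [h.z_sq, one_mul]
    have hzL : (⟨zE, hzm⟩ : eightSub π) ∈ (center (eightSub π) ⊓ L : Subgroup (eightSub π)) :=
      ⟨by rw [hcen, hker2]; exact mem_zpowers _, by
        rw [show (⟨zE, hzm⟩ : eightSub π) = (l : eightSub π) * l from Subtype.ext hl2.symm]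
        exact L.mul_mem l.2 l.2⟩
    rw [hL.disjoint.eq_bot, Subgroup.mem_bot] at hzL
    exact h.ne (congrArg Subtype.val hzL)
  obtain ⟨e⟩ := CfsgMcLChar.Cover.nonempty_equiv CfsgLib.McLInvol.double_cover hcov
  refine ⟨(eightSub π).subtype.comp e.toMonoidHom, Subtype.val_injective.comp e.injective, ?_, ?_⟩
  · rw [MonoidHom.range_comp, MonoidHom.range_eq_top.mpr e.surjective, ← MonoidHom.range_eq_map, Subgroup.range_subtype]
  · have hc : e tauC ∈ center (eightSub π) := by
      rw [Subgroup.mem_center_iff]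
      intro x
      obtain ⟨y, rfl⟩ := e.surjective x
      rw [← map_mul, ← map_mul]
      congr 1
      exact Subgroup.mem_center_iff.mp (center_cent.symm ▸ mem_zpowers tauC) y
    rw [hcen, MonoidHom.mem_ker, hker] at hc
    exact hc.resolve_left fun e' => tauC_ne_one (e.injective (Subtype.ext (e'.trans (by rw [map_one]; rfl))))

/-- Every admissible action on the quotient is realised by a complement. -/
theorem acts_realised : ((List.range 2).all fun k => (List.range 8).all fun a => (List.range 8).all fun b =>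
    (List.range 8).all fun c => ((List.range 7).any fun j => Nat.beq (lin [1, 2 * a, 2 * b, 2 * c] (2 * j + 2) &&& 14) 0) ||
      (List.range 168).any fun l => Nat.beq (((lActs k).getD l []).getD 1 0 &&& 14) (2 * a) &&
        Nat.beq (((lActs k).getD l []).getD 2 0 &&& 14) (2 * b) &&
        Nat.beq (((lActs k).getD l []).getD 3 0 &&& 14) (2 * c)) = true := by decide +kernel

theorem fixed_high (hn : 8 ≤ n) {τ : Perm (Fin n)} (hfix : ∀ i : Fin n, 8 ≤ (i : ℕ) → τ i = i)
    (h8 : τ.support.card = 8) (i : Fin n) : τ i = i ↔ 8 ≤ (i : ℕ) := by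
  classical
  refine ⟨fun h => ?_, hfix i⟩
  have hsub : τ.support ⊆ Finset.univ.filter fun i : Fin n => (i : ℕ) < 8 := fun j hj => by
    simp only [Finset.mem_filter, Finset.mem_univ, true_and]
    by_contra hh
    exact Perm.mem_support.mp hj (hfix j (Nat.not_lt.mp hh))
  have hc : (Finset.univ.filter fun i : Fin n => (i : ℕ) < 8).card = 8 := by
    have := Finset.card_filter_add_card_filter_not (s := (Finset.univ : Finset (Fin n))) (fun i : Fin n => (i : ℕ) < 8)
    simp only [not_lt] at this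
    rw [card_high hn, Finset.card_univ, Fintype.card_fin] at this
    omega
  have heq := Finset.eq_of_subset_of_card_le hsub (by omega)
  by_contra hlt
  have : i ∈ τ.support := heq ▸ Finset.mem_filter.mpr ⟨Finset.mem_univ _, Nat.not_le.mp hlt⟩
  exact Perm.mem_support.mp this h

/-- Non-central involutions have eight moved points. -/
theorem Cov.supp_eight (h : Cov π zE) (hn : n < 16) {x : E} (hx : x * x = 1) (h1 : x ≠ 1) (hz : x ≠ zE) :
    π x * π x = 1 ∧ (π x).support.card = 8 := by
  have h2 : π x * π x = 1 := by rw [← map_mul, hx, map_one]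
  refine ⟨h2, ?_⟩
  have hd := h.four_dvd x h2 hx
  have hne : (π x).support.card ≠ 0 := fun e => by
    rcases (h.ker x).mp (Perm.support_eq_empty_iff.mp (Finset.card_eq_zero.mp e)) with e' | e'
    exacts [h1 e', hz e']
  have := (Finset.card_le_univ (π x).support).trans (Fintype.card_fin n).le
  omega

theorem Cov.move_eight (h : Cov π zE) (hn : 9 ≤ n) (O : Finset (Fin n)) (hO : O.card = 8) :
    ∃ d : E, ∀ i, i ∈ O ↔ ((π d i : Fin n) : ℕ) < 8 := by
  classical
  have hc : Fintype.card {i : Fin n // i ∈ O} = Fintype.card {i : Fin n // (i : ℕ) < 8} := by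
    have := Finset.card_filter_add_card_filter_not (s := (Finset.univ : Finset (Fin n))) (fun i : Fin n => (i : ℕ) < 8)
    simp only [not_lt] at this
    rw [card_high (by omega), Finset.card_univ, Fintype.card_fin] at this
    rw [Fintype.card_coe, hO, Fintype.card_subtype]
    omega
  let e := Fintype.equivOfCardEq hc
  let σ : Perm (Fin n) := e.extendSubtype
  have hσ : ∀ i, i ∈ O ↔ ((σ i : Fin n) : ℕ) < 8 := fun i => by
    refine ⟨fun hi => e.extendSubtype_mem i hi, fun hi => ?_⟩
    by_contra hne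
    exact e.extendSubtype_not_mem i hne hi
  rcases Int.units_eq_one_or (Perm.sign σ) with hs | hs
  · obtain ⟨d, hd⟩ := h.cover.onto σ hs
    exact ⟨d, fun i => by rw [hd]; exact hσ i⟩
  · let a : Fin n := ⟨0, by omega⟩
    let b : Fin n := ⟨1, by omega⟩
    obtain ⟨d, hd⟩ := h.cover.onto (swap a b * σ) (by rw [map_mul, hs, Perm.sign_swap (by simp [a, b])]; rfl)
    refine ⟨d, fun i => ?_⟩
    rw [hd, hσ, Perm.mul_apply]
    by_cases ha : σ i = a
    · rw [ha, swap_apply_left]; simp [a, b]
    by_cases hb : σ i = b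
    · rw [hb, swap_apply_right]; simp [a, b]
    rw [swap_apply_of_ne_of_ne ha hb]

theorem Cov.pre_eight (h : Cov π zE) (hn9 : 9 ≤ n) (hn10 : n ≤ 10) {ψ : Cent →* E} (hinj : Function.Injective ψ)
    (hrange : ψ.range = eightSub π) (htau : ψ tauC = zE) {k : ℕ} (hk : k < 2) {g : E}
    (hg : g ∈ Subgroup.normalizer (Eg ψ k hk : Set E)) : g ∈ eightSub π := by
  classical
  let τ : ℕ → Perm (Fin n) := fun j => π (ψ (Ev k j))
  have hτmul : ∀ i < 16, ∀ j < 16, τ i * τ j = τ (i ^^^ j) := fun i hi j hj => by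
    simp only [τ, ← map_mul, Ev_mul hk hi hj]
  have hτ1 : ∀ j < 16, τ j = 1 → j = 0 ∨ j = 1 := fun j hj e => by
    rcases (h.ker _).mp e with e' | e'
    · exact Or.inl (Ev_inj hk hj (by omega) (hinj (by rw [e', Ev_zero, map_one])))
    · exact Or.inr (Ev_inj hk hj (by omega) (hinj (by rw [e', Ev_one k hk, htau])))
  have hlow : ∀ c : Cent, ∀ i : Fin n, 8 ≤ (i : ℕ) → π (ψ c) i = i := fun c =>
    (hrange ▸ ⟨c, rfl⟩ : ψ c ∈ eightSub π)
  have hτfix : ∀ j < 16, j ≠ 0 → j ≠ 1 → ∀ i, τ j i = i ↔ 8 ≤ (i : ℕ) := fun j hj h0 h1 => by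
    have hne1 : ψ (Ev k j) ≠ 1 := fun e => (hτ1 j hj (by simp [τ, e])).elim h0 h1
    have hnez : ψ (Ev k j) ≠ zE := fun e => (hτ1 j hj (by simp [τ, e, h.pi_z])).elim h0 h1
    exact fixed_high (by omega) (hlow _) (h.supp_eight (by omega) (by rw [← map_mul, Ev_self hk hj, map_one]) hne1 hnez).2
  have himg : ∀ j < 16, ∃ j' < 16, g * ψ (Ev k j) * g⁻¹ = ψ (Ev k j') := fun j hj =>
    mem_Eg.mp ((Subgroup.mem_normalizer_iff.mp hg _).mp (mem_Eg.mpr ⟨j, hj, rfl⟩))
  obtain ⟨a, ha, ea⟩ := himg 2 (by omega)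
  obtain ⟨b, hb, eb⟩ := himg 4 (by omega)
  obtain ⟨c, hc, ec⟩ := himg 8 (by omega)
  have hA : Acts ψ k g [1, a, b, c] := Acts.of_basis hk fun i hi => by
    interval_cases i
    · exact ⟨by simp, by show g * ψ (Ev k 1) * g⁻¹ = ψ (Ev k 1); rw [Ev_one k hk, htau, h.z_cen, mul_inv_cancel_right]⟩
    exacts [⟨ha, ea⟩, ⟨hb, eb⟩, ⟨hc, ec⟩]
  have hlo : ∀ j < 16, τ (j &&& 14) = τ j := fun j hj => by
    have h1 : τ 1 = 1 := by simp only [τ, Ev_one k hk, htau, h.pi_z]
    rcases (by omega : j &&& 14 = j ∨ j &&& 14 ≠ j) with e | e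
    · rw [e]
    · have e' : j &&& 14 = j ^^^ 1 := by revert e; interval_cases j <;> decide
      rw [e', ← hτmul j hj 1 (by omega), h1, mul_one]
  have hconj : ∀ j < 16, π g * τ j * (π g)⁻¹ = τ (lin [1, a, b, c] j) := fun j hj => by
    simp only [τ, ← map_inv, ← map_mul, (hA j hj).2]
  have hreal := List.all_eq_true.mp (List.all_eq_true.mp (List.all_eq_true.mp (List.all_eq_true.mp acts_realised k
    (List.mem_range.mpr hk)) ((a &&& 14) / 2) (List.mem_range.mpr (by
      have := Nat.and_le_right (n := a) (m := 14); omega))) ((b &&& 14) / 2) (List.mem_range.mpr (by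
      have := Nat.and_le_right (n := b) (m := 14); omega))) ((c &&& 14) / 2) (List.mem_range.mpr (by
      have := Nat.and_le_right (n := c) (m := 14); omega))
  have heven : ∀ x : ℕ, 2 * ((x &&& 14) / 2) = x &&& 14 := fun x => by
    have h2 : (x &&& 14) % 2 = 0 := by
      have := Nat.and_mod_two_pow (a := x) (b := 14) (n := 1)
      simpa using this
    omega
  rw [heven, heven, heven, Bool.or_eq_true] at hreal
  rcases hreal with hdep | hl
  · exfalso
    obtain ⟨j, hj, hj0⟩ := List.any_eq_true.mp hdep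
    rw [List.mem_range] at hj
    have h0 := Nat.eq_of_beq_eq_true hj0
    have hsame : τ (lin [1, a &&& 14, b &&& 14, c &&& 14] (2 * j + 2)) = τ (lin [1, a, b, c] (2 * j + 2)) := by
      have hla : a &&& 14 < 16 := lt_of_le_of_lt Nat.and_le_left ha
      have hlb : b &&& 14 < 16 := lt_of_le_of_lt Nat.and_le_left hb
      have hlc : c &&& 14 < 16 := lt_of_le_of_lt Nat.and_le_left hc
      interval_cases j <;> simp [lin, List.range_succ, ← hτmul, xor_lt, hla, hlb, hlc, ha, hb, hc, hlo]
    have hlt : lin [1, a &&& 14, b &&& 14, c &&& 14] (2 * j + 2) < 16 := by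
      have hla : a &&& 14 < 16 := lt_of_le_of_lt Nat.and_le_left ha
      have hlb : b &&& 14 < 16 := lt_of_le_of_lt Nat.and_le_left hb
      have hlc : c &&& 14 < 16 := lt_of_le_of_lt Nat.and_le_left hc
      interval_cases j <;> simp [lin, List.range_succ, xor_lt, hla, hlb, hlc]
    have := hconj (2 * j + 2) (by omega)
    rw [← hsame, ← hlo _ hlt, h0, show τ 0 = 1 by simp [τ, Ev_zero], mul_inv_eq_one, mul_eq_left] at this
    rcases hτ1 _ (by omega) this with e | e <;> omega
  obtain ⟨l, hl, hl'⟩ := List.any_eq_true.mp hl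
  rw [List.mem_range] at hl
  rw [Bool.and_eq_true, Bool.and_eq_true] at hl'
  obtain ⟨⟨la, lb⟩, lc⟩ := hl'
  set A := (lActs k).getD l []
  set ρ := π (ψ (Lv k l)) with hρ
  have hLv : ∀ i < 4, A.getD i 0 < 16 ∧ ρ * τ (2 ^ i) * ρ⁻¹ = τ (A.getD i 0) := fun i hi => by
    have h2 : 2 ^ i < 16 := by interval_cases i <;> norm_num
    obtain ⟨h1, e⟩ := (acts_Lv ψ hk hl) (2 ^ i) h2
    rw [lin_pow _ hi] at h1 e
    exact ⟨h1, by simp only [hρ, τ, ← map_inv π, ← map_mul π, e]; rfl⟩
  let ν := ρ⁻¹ * π g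
  have hνgen : ∀ i, (i = 2 ∨ i = 4 ∨ i = 8) → ν * τ i = τ i * ν := by
    have key : ∀ (i x : ℕ) (hi : i < 4), x < 16 → π g * τ (2 ^ i) * (π g)⁻¹ = τ x →
        (A.getD i 0 &&& 14).beq (x &&& 14) = true → ν * τ (2 ^ i) = τ (2 ^ i) * ν := by
      intro i x hi hx e eb
      have e2 : τ (A.getD i 0) = τ x := by rw [← hlo _ (hLv i hi).1, Nat.eq_of_beq_eq_true eb, hlo _ hx]
      calc ν * τ (2 ^ i) = ρ⁻¹ * (π g * τ (2 ^ i) * (π g)⁻¹) * π g := by simp only [ν]; group
        _ = ρ⁻¹ * (ρ * τ (2 ^ i) * ρ⁻¹) * π g := by rw [e, (hLv i hi).2, e2]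
        _ = τ (2 ^ i) * ν := by simp only [ν]; group
    rintro i (rfl | rfl | rfl)
    · exact key 1 a (by omega) ha (by simp only [τ, ← map_inv, ← map_mul]; exact congrArg π ea) la
    · exact key 2 b (by omega) hb (by simp only [τ, ← map_inv, ← map_mul]; exact congrArg π eb) lb
    · exact key 3 c (by omega) hc (by simp only [τ, ← map_inv, ← map_mul]; exact congrArg π ec) lc
  have hνall : ∀ j < 16, Commute ν (τ j) := by
    have c1 : Commute ν (τ 1) := by
      rw [show τ 1 = 1 by simp only [τ, Ev_one k hk, htau, h.pi_z]]; exact Commute.one_right _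
    have c2 : Commute ν (τ 2) := hνgen 2 (Or.inl rfl)
    have c4 : Commute ν (τ 4) := hνgen 4 (Or.inr (Or.inl rfl))
    have c8 : Commute ν (τ 8) := hνgen 8 (Or.inr (Or.inr rfl))
    have c0 : Commute ν (τ 0) := by simp [τ, Ev_zero]
    have x : ∀ i < 16, ∀ j < 16, Commute ν (τ i) → Commute ν (τ j) → Commute ν (τ (i ^^^ j)) :=
      fun i hi j hj a b => hτmul i hi j hj ▸ a.mul_right b
    intro j hj
    have c3 := x 1 (by omega) 2 (by omega) c1 c2
    have c5 := x 1 (by omega) 4 (by omega) c1 c4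
    have c6 := x 2 (by omega) 4 (by omega) c2 c4
    have c7 := x 3 (by omega) 4 (by omega) c3 c4
    interval_cases j
    exacts [c0, c1, c2, c3, c4, c5, c6, c7, c8, x 1 (by omega) 8 (by omega) c1 c8, x 2 (by omega) 8 (by omega) c2 c8,
      x 3 (by omega) 8 (by omega) c3 c8, x 4 (by omega) 8 (by omega) c4 c8, x 5 (by omega) 8 (by omega) c5 c8,
      x 6 (by omega) 8 (by omega) c6 c8, x 7 (by omega) 8 (by omega) c7 c8]
  have hνhigh : ∀ i : Fin n, 8 ≤ (i : ℕ) → 8 ≤ ((ν i : Fin n) : ℕ) := fun i hi => by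
    rw [← hτfix 2 (by omega) (by omega) (by omega)] at hi ⊢
    rw [← Perm.mul_apply, ← (hνall 2 (by omega)).eq, Perm.mul_apply, hi]
  -- the image of the first point
  let p : Fin n := ⟨0, by omega⟩
  have hνlow : ((ν p : Fin n) : ℕ) < 8 := by
    by_contra hh
    have h2 : τ 2 (ν p) = ν p := (hτfix 2 (by omega) (by omega) (by omega) _).mpr (Nat.not_lt.mp hh)
    rw [← Perm.mul_apply, ← (hνall 2 (by omega)).eq, Perm.mul_apply] at h2
    have := (hτfix 2 (by omega) (by omega) (by omega) p).mp (ν.injective h2)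
    simp [p] at this
  have hτlow : ∀ j < 16, ((τ j p : Fin n) : ℕ) < 8 := fun j hj => by
    by_contra hh
    have h1 := hlow (Ev k j) _ (Nat.not_lt.mp hh)
    have h3 : τ j p = p := (τ j).injective h1
    rw [h3] at hh
    simp [p] at hh
  let f : Fin 8 → Fin 8 := fun j => ⟨_, hτlow (2 * j) (by omega)⟩
  have hf : Function.Injective f := by
    intro i j e
    have e' : τ (2 * i) p = τ (2 * j) p := Fin.ext (by have := congrArg Fin.val e; exact this)
    by_contra hne
    have hx : (2 * (i : ℕ)) ^^^ (2 * (j : ℕ)) ≠ 0 ∧ (2 * (i : ℕ)) ^^^ (2 * (j : ℕ)) ≠ 1 ∧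
        (2 * (i : ℕ)) ^^^ (2 * (j : ℕ)) < 16 :=
      (show ∀ i j : Fin 8, i ≠ j → (2 * (i : ℕ)) ^^^ (2 * (j : ℕ)) ≠ 0 ∧ (2 * (i : ℕ)) ^^^ (2 * (j : ℕ)) ≠ 1 ∧
        (2 * (i : ℕ)) ^^^ (2 * (j : ℕ)) < 16 by decide) i j hne
    have := (hτfix _ hx.2.2 hx.1 hx.2.1 p).mp (by
      rw [← hτmul _ (by omega) _ (by omega), Perm.mul_apply, ← e', ← Perm.mul_apply, hτmul _ (by omega) _ (by omega),
        Nat.xor_self]
      simp [τ, Ev_zero])
    simp [p] at this
  obtain ⟨j0, hj0⟩ := (Finite.injective_iff_surjective.mp hf) ⟨_, hνlow⟩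
  have hj0' : τ (2 * j0) p = ν p := Fin.ext (by have := congrArg Fin.val hj0; exact this)
  let μ := (τ (2 * j0))⁻¹ * ν
  have hμall : ∀ j < 16, Commute μ (τ j) := fun j hj => by
    refine Commute.mul_left (Commute.inv_left ?_) (hνall j hj)
    show τ (2 * j0) * τ j = τ j * τ (2 * j0)
    rw [hτmul _ (by omega) _ hj, hτmul _ hj _ (by omega), Nat.xor_comm]
  have hμp : μ p = p := by rw [Perm.mul_apply, ← hj0', Perm.coe_inv, Equiv.symm_apply_apply]
  have hμlow : ∀ i : Fin n, (i : ℕ) < 8 → μ i = i := fun i hi => by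
    obtain ⟨j, hj⟩ := (Finite.injective_iff_surjective.mp hf) ⟨_, hi⟩
    have e : τ (2 * j) p = i := Fin.ext (by have := congrArg Fin.val hj; exact this)
    rw [← e, ← Perm.mul_apply, (hμall _ (by omega)).eq, Perm.mul_apply, hμp]
  have hμ1 : μ = 1 := by
    by_contra hne
    have hsub : μ.support ⊆ Finset.univ.filter fun i : Fin n => 8 ≤ (i : ℕ) := fun i hi => by
      simp only [Finset.mem_filter, Finset.mem_univ, true_and]
      by_contra hh
      exact Perm.mem_support.mp hi (hμlow i (Nat.not_le.mp hh))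
    have h2 := Perm.two_le_card_support_of_ne_one hne
    have h3 := Finset.card_le_card hsub
    rw [card_high (by omega)] at h3
    obtain ⟨u, v, huv, e⟩ := Perm.card_support_eq_two.mp (show μ.support.card = 2 by omega)
    have hs : Perm.sign μ = 1 := by
      simp only [μ, ν, τ, hρ, map_mul, map_inv, h.cover.even, inv_one, mul_one]
    rw [e, Perm.sign_swap huv] at hs
    exact absurd hs (by decide)
  intro i hi
  have hg' : π g = ρ * τ (2 * j0) := by
    have : π g = ρ * τ (2 * j0) * μ := by simp only [μ, ν]; group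
    rwa [hμ1, mul_one] at this
  rw [hg', Perm.mul_apply, hlow _ i hi, hlow _ i hi]

theorem Cov.groups_eight (h : Cov π zE) (hn9 : 9 ≤ n) (hn10 : n ≤ 10) {ψ : Cent →* E}
    (hinj : Function.Injective ψ) (hrange : ψ.range = eightSub π) (htau : ψ tauC = zE) {X : Subgroup E}
    (hX : Nat.card X = 16) (h2 : ∀ x ∈ X, x * x = 1) (hz : zE ∈ X) :
    ∃ k, ∃ hk : k < 2, ∃ d : E, X = (Eg ψ k hk).map (MulAut.conj d).toMonoidHom := by
  classical
  have hsupp : ∀ x ∈ X, π x ≠ 1 → (π x).support.card = 8 := fun x hx hne =>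
    (h.supp_eight (by omega) (h2 x hx) (fun e => hne (by rw [e, map_one])) (fun e => hne (by rw [e, h.pi_z]))).2
  have hfix : ∀ x ∈ X, π x ≠ 1 → (Finset.univ.filter fun i => π x i = i).card = n - 8 := fun x hx hne => by
    have := Finset.card_filter_add_card_filter_not (s := (Finset.univ : Finset (Fin n))) (fun i => π x i = i)
    rw [Finset.card_univ, Fintype.card_fin] at this
    have h8 := hsupp x hx hne
    have e : (π x).support = Finset.univ.filter fun i => ¬ π x i = i := by ext i; simp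
    rw [e] at h8
    omega
  have hcomm : ∀ x ∈ X, ∀ y ∈ X, π x * π y = π y * π x := fun x hx y hy => by
    have := h2 _ (X.mul_mem hx hy)
    rw [← map_mul, ← map_mul]
    congr 1
    calc x * y = x * (x * y * (x * y)) * y := by rw [this, mul_one]
      _ = (x * x) * (y * x) * (y * y) := by group
      _ = y * x := by rw [h2 x hx, h2 y hy, one_mul, mul_one]
  have hexists : ∀ S : Subgroup E, S ≤ X → 4 < Nat.card S → ∀ a : E, π a * π a = 1 →
      ∃ c ∈ S, π c ≠ 1 ∧ π c ≠ π a := fun S _ hS a _ => by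
    by_contra! hno
    have hle : (S : Set E) ⊆ ({1, zE} : Set E) ∪ {a, a * zE} := fun x hx => by
      by_cases hx1 : π x = 1
      · rcases (h.ker x).mp hx1 with e | e <;> simp [e]
      · rcases h.eq_or (hno x hx hx1) with e | e <;> simp [e]
    have := Set.ncard_le_ncard hle (Set.toFinite _)
    rw [← Nat.card_coe_set_eq] at this
    have h4 := Set.ncard_union_le ({1, zE} : Set E) {a, a * zE}
    have h5 := Set.ncard_insert_le (1 : E) {zE}
    have h6 := Set.ncard_insert_le a {a * zE}
    simp only [Set.ncard_singleton] at h5 h6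
    have : Nat.card (S : Set E) = Nat.card S := rfl
    omega
  obtain ⟨a, ha, ha1, -⟩ := hexists X le_rfl (by omega) 1 (by simp)
  set O := (π a).support with hO
  -- every element fixes the points fixed by one of them
  have hkey : ∀ b ∈ X, ∀ i, π a i = i → π b i = i := by
    intro b hb i hi
    by_contra hne
    have hmap : ∀ c ∈ X, ∀ j, π a j = j → π a (π c j) = π c j := fun c hc j hj => by
      rw [← Perm.mul_apply, hcomm a ha c hc, Perm.mul_apply, hj]
    let K : Subgroup E :=
      { carrier := {c | c ∈ X ∧ ∀ j, π a j = j → π c j = j}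
        one_mem' := ⟨one_mem _, fun j _ => by simp⟩
        mul_mem' := fun {u v} hu hv => ⟨mul_mem hu.1 hv.1, fun j hj => by
          rw [map_mul, Perm.mul_apply, hv.2 j hj, hu.2 j hj]⟩
        inv_mem' := fun {u} hu => ⟨inv_mem hu.1, fun j hj => by rw [map_inv, Perm.inv_eq_iff_eq, hu.2 j hj]⟩ }
    have hF : ∀ j, π a j = j → j = i ∨ j = π b i := by
      intro j hj
      by_contra hno
      rw [not_or] at hno
      have hsub : ({i, π b i, j} : Finset (Fin n)) ⊆ Finset.univ.filter fun w => π a w = w := fun w hw => by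
        simp only [Finset.mem_insert, Finset.mem_singleton] at hw
        simp only [Finset.mem_filter, Finset.mem_univ, true_and]
        rcases hw with rfl | rfl | rfl
        exacts [hi, hmap b hb _ hi, hj]
      have h3 := Finset.card_le_card hsub
      rw [hfix a ha ha1, Finset.card_eq_three.mpr ⟨i, π b i, j, Ne.symm hne, Ne.symm hno.1, Ne.symm hno.2, rfl⟩] at h3
      omega
    have hK : ∀ c ∈ X, c ∈ K ∨ b * c ∈ K := by
      intro c hc
      rcases hF _ (hmap c hc i hi) with e | e
      · refine Or.inl ⟨hc, fun j hj => ?_⟩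
        rcases hF j hj with rfl | rfl
        · exact e
        · rw [← Perm.mul_apply, hcomm c hc b hb, Perm.mul_apply, e]
      · refine Or.inr ⟨mul_mem hb hc, fun j hj => ?_⟩
        have hbi : π (b * c) i = i := by
          rw [map_mul, Perm.mul_apply, e, ← Perm.mul_apply, ← map_mul, h2 b hb, map_one]; rfl
        rcases hF j hj with rfl | rfl
        · exact hbi
        · rw [← Perm.mul_apply, hcomm _ (mul_mem hb hc) b hb, Perm.mul_apply, hbi]
    have hK' : 8 ≤ Nat.card K := by
      have hsub : (X : Set E) ⊆ (K : Set E) ∪ (fun c => b * c) '' (K : Set E) := fun c hc => by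
        rcases hK c hc with hc' | hc'
        · exact Or.inl hc'
        · exact Or.inr ⟨b * c, hc', by simp only; rw [← mul_assoc, h2 b hb, one_mul]⟩
      have h1 := Set.ncard_le_ncard hsub (Set.toFinite _)
      have h3 := Set.ncard_union_le (K : Set E) ((fun c => b * c) '' (K : Set E))
      have h4 := Set.ncard_image_le (f := fun c => b * c) (s := (K : Set E)) (Set.toFinite _)
      rw [← Nat.card_coe_set_eq] at h1
      have : Nat.card (X : Set E) = Nat.card X := rfl
      have : (K : Set E).ncard = Nat.card K := (Nat.card_coe_set_eq _).symm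
      omega
    obtain ⟨c, hc, hc1, hca⟩ := hexists K (fun x hx => hx.1) (by omega) a (by rw [← map_mul, h2 a ha, map_one])
    have hac1 : π (a * c) ≠ 1 := fun e => hca (by
      rw [map_mul] at e
      rw [← inv_eq_of_mul_eq_one_right e, inv_eq_of_mul_eq_one_right]
      rw [← map_mul, h2 a ha, map_one])
    have hb1 : π b ≠ 1 := fun e => hne (by rw [e]; rfl)
    obtain ⟨r, hr, hra⟩ : ∃ r, π b r = r ∧ π a r ≠ r := by
      by_contra! hno
      have hsub : (Finset.univ.filter fun w => π b w = w) ⊆ ∅ := fun w hw => by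
        simp only [Finset.mem_filter, Finset.mem_univ, true_and] at hw
        rcases hF w (hno w hw) with rfl | rfl
        · exact absurd hw hne
        · exact absurd ((π b).injective hw) hne
      have := Finset.card_le_card hsub
      rw [hfix b hb hb1, Finset.card_empty] at this
      omega
    have hfixK : ∀ d ∈ K, π d ≠ 1 → ∀ w, π d w = w → π a w = w := by
      intro d hd hd1 w hw
      have hsub : (Finset.univ.filter fun v => π a v = v) ⊆ Finset.univ.filter fun v => π d v = v := fun v hv => by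
        simp only [Finset.mem_filter, Finset.mem_univ, true_and] at hv ⊢
        exact hd.2 v hv
      have := Finset.eq_of_subset_of_card_le hsub (by rw [hfix a ha ha1, hfix d hd.1 hd1])
      have hw' : w ∈ Finset.univ.filter fun v => π d v = v := by simpa using hw
      rw [← this] at hw'
      simpa using hw'
    have hbfix : ∀ d ∈ X, π b (π d r) = π d r := fun d hd => by
      rw [← Perm.mul_apply, hcomm b hb d hd, Perm.mul_apply, hr]
    have hne1 : π c r ≠ r := fun e => hra (hfixK c hc hc1 r e)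
    have hne2 : π c r ≠ π a r := fun e => hra (hfixK (a * c) (mul_mem ⟨ha, fun j hj => hj⟩ hc) hac1 r (by
      rw [map_mul, Perm.mul_apply, e, ← Perm.mul_apply, ← map_mul, h2 a ha, map_one]; rfl))
    have hsub : ({r, π a r, π c r} : Finset (Fin n)) ⊆ Finset.univ.filter fun w => π b w = w := fun w hw => by
      simp only [Finset.mem_insert, Finset.mem_singleton] at hw
      simp only [Finset.mem_filter, Finset.mem_univ, true_and]
      rcases hw with rfl | rfl | rfl
      exacts [hr, hbfix a ha, hbfix c hc.1]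
    have h3 := Finset.card_le_card hsub
    rw [hfix b hb hb1, Finset.card_eq_three.mpr ⟨r, π a r, π c r, Ne.symm hra, Ne.symm hne1, Ne.symm hne2, rfl⟩] at h3
    omega
  obtain ⟨d, hd⟩ := h.move_eight hn9 O (hsupp a ha ha1)
  set X' := X.map (MulAut.conj d).toMonoidHom with hX'
  have hle : X' ≤ ψ.range := by
    rintro _ ⟨x, hx, rfl⟩
    rw [hrange]
    intro i hi
    show π (d * x * d⁻¹) i = i
    rw [map_mul, map_mul, map_inv, Perm.mul_apply, Perm.mul_apply]
    have hfixi : π a ((π d)⁻¹ i) = (π d)⁻¹ i := by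
      by_contra hne
      have := (hd ((π d)⁻¹ i)).mp (Perm.mem_support.mpr hne)
      rw [Perm.coe_inv, Equiv.apply_symm_apply] at this
      omega
    rw [hkey x hx _ hfixi, Perm.coe_inv, Equiv.apply_symm_apply]
  have hmap : (X'.comap ψ).map ψ = X' := Subgroup.map_comap_eq_self hle
  have hcard : Nat.card (X'.comap ψ) = 16 := by
    rw [← hX, ← Subgroup.card_map_of_injective hinj, hmap]
    exact Subgroup.card_map_of_injective (MulEquiv.injective _)
  obtain ⟨k, hk, c, hc⟩ := e16_conj hcard (fun x hx => hinj (by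
    obtain ⟨y, hy, e⟩ : ψ x ∈ X' := hx
    rw [map_mul, map_one, ← e, ← map_mul, h2 y hy, map_one]))
    (show ψ tauC ∈ X' from htau.symm ▸ ⟨zE, hz, by
      show d * zE * d⁻¹ = zE
      rw [h.z_cen, mul_inv_cancel_right]⟩)
  refine ⟨k, hk, d⁻¹ * ψ c, ?_⟩
  have hXe : X = X'.map (MulAut.conj d⁻¹).toMonoidHom := by
    rw [hX', Subgroup.map_map, show (MulAut.conj d⁻¹).toMonoidHom.comp (MulAut.conj d).toMonoidHom = MonoidHom.id E by
      ext x; simp [mul_assoc], Subgroup.map_id]
  rw [hXe, ← hmap, hc, Eg, Subgroup.map_map, Subgroup.map_map, Subgroup.map_map]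
  congr 1
  ext x
  simp [MulAut.conj_apply, mul_assoc]

theorem Cov.conj_eight (h : Cov π zE) (hn9 : 9 ≤ n) (hn10 : n ≤ 10) {ψ : Cent →* E}
    (hinj : Function.Injective ψ) (hrange : ψ.range = eightSub π) (htau : ψ tauC = zE) {u : Cent} (hu2 : u * u = 1)
    (hu1 : u ≠ 1) (hut : u ≠ tauC) {f : E} (hf2 : f * f = 1) (hf1 : f ≠ 1) (hfz : f ≠ zE) :
    ∃ d : E, d * f * d⁻¹ = ψ u := by
  classical
  obtain ⟨hs2, hs8⟩ := h.supp_eight (by omega) hf2 hf1 hfz
  obtain ⟨ht2, ht8⟩ := h.supp_eight (x := ψ u) (by omega) (by rw [← map_mul, hu2, map_one])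
    (fun e => hu1 (hinj (by rw [e, map_one]))) (fun e => hut (hinj (by rw [e, htau])))
  have hct : ∀ τ : Perm (Fin n), τ * τ = 1 → τ.support.card = 8 → τ.cycleType = Multiset.replicate 4 2 := by
    intro τ h2 h8
    have hall : ∀ c ∈ τ.cycleType, c = 2 := fun c hc => by
      have h1 := (Perm.dvd_of_mem_cycleType hc).trans (orderOf_dvd_of_pow_eq_one (by rw [sq, h2]))
      have := Perm.two_le_of_mem_cycleType hc
      rcases (Nat.dvd_prime Nat.prime_two).mp h1 with e | e <;> omega
    have hrep := Multiset.eq_replicate_card.mpr hall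
    have hsum := Perm.sum_cycleType τ
    rw [hrep, Multiset.sum_replicate, smul_eq_mul, h8] at hsum
    rw [hrep, show Multiset.card τ.cycleType = 4 by omega]
  obtain ⟨a, ha⟩ := Finset.card_pos.mp (show 0 < (π f).support.card by omega)
  have hc : Commute (swap a (π f a)) (π f) := by
    show swap a (π f a) * π f = π f * swap a (π f a)
    have e : π f (π f a) = a := by rw [← Perm.mul_apply, hs2]; rfl
    rw [Equiv.mul_swap_eq_swap_mul (π f), e, swap_comm a]
  obtain ⟨σ, hσ, hσc⟩ := CfsgAltCover.conj_even ((hct _ hs2 hs8).trans (hct _ ht2 ht8).symm) hc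
    (Perm.sign_swap (Ne.symm (Perm.mem_support.mp ha)))
  obtain ⟨d, hd⟩ := h.cover.onto σ (Perm.mem_alternatingGroup.mp hσ)
  have hπ : π (d * f * d⁻¹) = π (ψ u) := by rw [map_mul, map_mul, map_inv, hd, hσc]
  have hm : d * f * d⁻¹ ∈ ψ.range := by
    rw [hrange]
    intro i hi
    rw [hπ]
    exact (hrange ▸ ⟨u, rfl⟩ : ψ u ∈ eightSub π) i hi
  obtain ⟨x, hx⟩ := hm
  have hx2 : x * x = 1 := hinj (by
    rw [map_mul, hx, map_one, show d * f * d⁻¹ * (d * f * d⁻¹) = d * (f * f) * d⁻¹ by group, hf2, mul_one,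
      mul_inv_cancel])
  obtain ⟨c, hc⟩ := inv_conj hx2 (fun e => hf1 (conj_eq_one_iff.mp (by rw [← hx, e, map_one])))
    (fun e => hfz (by
      rw [e, htau] at hx
      calc f = d⁻¹ * (d * f * d⁻¹) * d := by group
        _ = zE := by rw [← hx, h.z_cen, mul_assoc, inv_mul_cancel, mul_one]))
  obtain ⟨c', hc'⟩ := inv_conj hu2 hu1 hut
  refine ⟨ψ (c' * c⁻¹) * d, ?_⟩
  calc ψ (c' * c⁻¹) * d * f * (ψ (c' * c⁻¹) * d)⁻¹ = ψ (c' * c⁻¹) * (d * f * d⁻¹) * (ψ (c' * c⁻¹))⁻¹ := by group
    _ = ψ u := by rw [← hx, hc, hc', ← map_inv, ← map_mul, ← map_mul]; congr 1; group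

/-- The centraliser of a fused involution with this cover satisfies the hypotheses of the characterisation of McL. -/
theorem exists_setting {π : centralizer ({z} : Set G) →* Perm (Fin n)}
    {zC : centralizer ({z} : Set G)} (hzC : (zC : G) = z) (h : Cov π zC) (hn9 : 9 ≤ n) (hn10 : n ≤ 10)
    (hfused : ∃ g : G, g * z * g⁻¹ ∈ centralizer ({z} : Set G) ∧ g * z * g⁻¹ ≠ z) :
    ∃ ψ : Cent →* centralizer ({z} : Set G), ψ.range = eightSub π ∧
      CfsgMcLChar.Setting z ((centralizer ({z} : Set G)).subtype.comp ψ) := by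
  obtain ⟨ψ, hinj, hrange, htau⟩ := h.eight_model (by omega)
  have hEg : ∀ k (hk : k < 2), Eg ((centralizer ({z} : Set G)).subtype.comp ψ) k hk =
      (Eg ψ k hk).map (centralizer ({z} : Set G)).subtype := fun k hk => (Subgroup.map_map _ _ _).symm
  refine ⟨ψ, hrange, ⟨Subtype.val_injective.comp hinj, ?_, by
    show ((ψ tauC : centralizer ({z} : Set G)) : G) = z
    rw [htau, hzC], hfused, fun u h2 h1 hut f hfz hff hf1 hne => ?_, fun X hX h2 hzX => ?_, fun k hk g hg hgz => ?_⟩⟩
  · rintro _ ⟨c, rfl⟩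
    exact (ψ c).2
  · obtain ⟨d, hd⟩ := h.conj_eight hn9 hn10 hinj hrange htau h2 h1 hut
      (f := ⟨f, Subgroup.mem_centralizer_singleton_iff.mpr hfz⟩) (Subtype.ext hff)
      (fun e => hf1 (congrArg Subtype.val e)) (fun e => hne ((congrArg Subtype.val e).trans hzC))
    exact ⟨d, Subgroup.mem_centralizer_singleton_iff.mp d.2, congrArg Subtype.val hd⟩
  · have hle : X ≤ centralizer ({z} : Set G) := fun x hx => by
      rw [Subgroup.mem_centralizer_singleton_iff]
      have := inv_eq_of_mul_eq_one_right (h2 _ (X.mul_mem hx hzX))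
      rw [mul_inv_rev, inv_eq_of_mul_eq_one_right (h2 x hx), inv_eq_of_mul_eq_one_right (h2 z hzX)] at this
      exact this.symm
    obtain ⟨k, hk, d, hd⟩ := h.groups_eight hn9 hn10 hinj hrange htau (X := X.subgroupOf _)
      (by rw [← hX]; exact Nat.card_congr (Subgroup.subgroupOfEquivOfLe hle).toEquiv)
      (fun x hx => Subtype.ext (h2 _ (Subgroup.mem_subgroupOf.mp hx)))
      (Subgroup.mem_subgroupOf.mpr (hzC.symm ▸ hzX))
    refine ⟨k, hk, d, Subgroup.mem_centralizer_singleton_iff.mp d.2, ?_⟩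
    rw [← Subgroup.map_subgroupOf_eq_of_le hle, hd, hEg, Subgroup.map_map, Subgroup.map_map]
    rfl
  · have hgm : (⟨g, Subgroup.mem_centralizer_singleton_iff.mpr hgz⟩ : centralizer ({z} : Set G)) ∈
        Subgroup.normalizer (Eg ψ k hk : Set (centralizer ({z} : Set G))) := by
      refine Subgroup.mem_normalizer_iff.mpr fun y => ?_
      have := Subgroup.mem_normalizer_iff.mp hg (y : G)
      rw [hEg] at this
      exact (Subgroup.mem_map_iff_mem (f := (centralizer ({z} : Set G)).subtype) Subtype.val_injective).symm.trans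
        (this.trans (Subgroup.mem_map_iff_mem (f := (centralizer ({z} : Set G)).subtype) Subtype.val_injective
          (x := ⟨g, Subgroup.mem_centralizer_singleton_iff.mpr hgz⟩ * y *
            (⟨g, Subgroup.mem_centralizer_singleton_iff.mpr hgz⟩ : centralizer ({z} : Set G))⁻¹)))
    obtain ⟨c, hc⟩ := (hrange.symm ▸ h.pre_eight hn9 hn10 hinj hrange htau hk hgm :
      (⟨g, Subgroup.mem_centralizer_singleton_iff.mpr hgz⟩ : centralizer ({z} : Set G)) ∈ ψ.range)
    exact ⟨c, congrArg Subtype.val hc⟩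

end CfsgAltCentInv
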