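import Mathlib.GroupTheory.Perm.Cycle.Concrete
import Mathlib.GroupTheory.PGroup

/-!
Inverted elementary abelian three-groups of permutations of at most ten points.
-/

set_option autoImplicit false
set_option linter.unusedSectionVars false
set_option linter.style.haveILetI false

namespace CfsgAltCentInv

open Equiv Subgroup

variable {n : ℕ} {Y : Subgroup (Perm (Fin n))}

theorem orbit_three (Y : Subgroup (Perm (Fin n))) (hexp : ∀ y ∈ Y, y ^ 3 = 1) (p : Fin n) :
    ∃ k, Nat.card (MulAction.orbit Y p) = 3 ^ k := by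
  haveI : Fact (Nat.Prime 3) := ⟨Nat.prime_three⟩
  have hP : IsPGroup 3 Y := fun y => ⟨1, Subtype.ext (by rw [pow_one, Subgroup.coe_pow, hexp _ y.2]; rfl)⟩
  haveI : Finite (MulAction.orbit Y p) := Subtype.finite
  exact hP.card_orbit p

theorem stab_fixes (hab : ∀ x ∈ Y, ∀ y ∈ Y, x * y = y * x) {p : Fin n} {y : Perm (Fin n)} (hy : y ∈ Y)
    (hfix : y p = p) {q : Fin n} (hq : q ∈ MulAction.orbit Y p) : y q = q := by
  obtain ⟨g, rfl⟩ := hq
  show y ((g : Perm (Fin n)) p) = (g : Perm (Fin n)) p
  rw [← Perm.mul_apply, hab y hy _ g.2, Perm.mul_apply, hfix]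

/-- An inverted elementary abelian three-group of permutations of at most ten points has at most nine elements. -/
theorem inverted_three_le (hn : n ≤ 10) (hexp : ∀ y ∈ Y, y ^ 3 = 1) (hab : ∀ x ∈ Y, ∀ y ∈ Y, x * y = y * x)
    {f : Perm (Fin n)} (hf : f * f = 1) (hf8 : 8 ≤ f.support.card) (hinv : ∀ y ∈ Y, f * y = y⁻¹ * f) :
    Nat.card Y ≤ 9 := by
  classical
  haveI : Fact (Nat.Prime 3) := ⟨Nat.prime_three⟩
  by_contra! h9
  have hP : IsPGroup 3 Y := fun y => ⟨1, Subtype.ext (by rw [pow_one, Subgroup.coe_pow, hexp _ y.2]; rfl)⟩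
  obtain ⟨m, hm⟩ := IsPGroup.iff_card.mp hP
  have h27 : 27 ≤ Nat.card Y := by
    rw [hm] at h9 ⊢
    have : 3 ≤ m := by
      by_contra! hlt
      have := Nat.pow_le_pow_right (show 1 ≤ 3 by norm_num) (show m ≤ 2 by omega)
      omega
    exact le_trans (by norm_num) (Nat.pow_le_pow_right (by norm_num) this)
  have horb : ∀ p : Fin n, Nat.card (MulAction.orbit Y p) ≤ 3 := by
    intro p
    obtain ⟨k, hk⟩ := orbit_three Y hexp p
    have hle : Nat.card (MulAction.orbit Y p) ≤ n := by
      have := Nat.card_le_card_of_injective (Subtype.val : MulAction.orbit Y p → Fin n) Subtype.val_injective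
      rwa [Nat.card_fin] at this
    rw [hk]
    by_contra! hlt
    have hk2 : k = 2 := by
      have h2 : 2 ≤ k := by
        by_contra! h; interval_cases k <;> omega
      by_contra hne
      have := Nat.pow_le_pow_right (show 1 ≤ 3 by norm_num) (show 3 ≤ k by omega)
      omega
    -- a regular orbit
    have hst : MulAction.stabilizer Y p = ⊥ := by
      rw [Subgroup.eq_bot_iff_forall]
      intro y hy
      have hfix : ∀ q ∈ MulAction.orbit Y p, (y : Perm (Fin n)) q = q := fun q hq => stab_fixes hab y.2 hy hq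
      by_contra h1
      have hsub : (y : Perm (Fin n)).support ⊆ (Finset.univ.filter fun q => q ∉ MulAction.orbit Y p) := fun q hq => by
        simp only [Finset.mem_filter, Finset.mem_univ, true_and]
        exact fun h => Perm.mem_support.mp hq (hfix q h)
      have h3 := Finset.card_le_card hsub
      have hcomp : (Finset.univ.filter fun q => q ∉ MulAction.orbit Y p).card ≤ 1 := by
        have e := Finset.card_filter_add_card_filter_not (s := (Finset.univ : Finset (Fin n)))
          (fun q => q ∈ MulAction.orbit Y p)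
        rw [Finset.card_univ, Fintype.card_fin, ← Fintype.card_subtype, ← Nat.card_eq_fintype_card] at e
        rw [hk, hk2] at e
        omega
      have h2 := Perm.two_le_card_support_of_ne_one (f := (y : Perm (Fin n))) fun e => h1 (Subtype.ext e)
      omega
    have hc := MulAction.card_orbit_mul_card_stabilizer_eq_card_group Y p
    rw [← Nat.card_eq_fintype_card, ← Nat.card_eq_fintype_card, ← Nat.card_eq_fintype_card, hst, Subgroup.card_bot,
      mul_one, hk, hk2] at hc
    omega
  -- the subgroup fixing some points pointwise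
  let S : List (Fin n) → Subgroup (Perm (Fin n)) := fun l =>
    { carrier := {y | y ∈ Y ∧ ∀ p ∈ l, y p = p}
      one_mem' := ⟨one_mem _, fun p _ => rfl⟩
      mul_mem' := fun {a b} ha hb => ⟨mul_mem ha.1 hb.1, fun p hp => by rw [Perm.mul_apply, hb.2 p hp, ha.2 p hp]⟩
      inv_mem' := fun {a} ha => ⟨inv_mem ha.1, fun p hp => by rw [Perm.inv_eq_iff_eq, ha.2 p hp]⟩ }
  have hS0 : S [] = Y := by ext y; exact ⟨fun h => h.1, fun h => ⟨h, by simp⟩⟩
  have hstep : ∀ (l : List (Fin n)) (p : Fin n), Nat.card (S l) ≤ 3 * Nat.card (S (p :: l)) := by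
    intro l p
    have hle : S l ≤ Y := fun y hy => hy.1
    have hsub : MulAction.orbit (S l) p ⊆ MulAction.orbit Y p := by
      rintro q ⟨g, rfl⟩
      exact ⟨⟨g, hle g.2⟩, rfl⟩
    have h3 : Nat.card (MulAction.orbit (S l) p) ≤ 3 :=
      (Nat.card_mono (Set.toFinite _) hsub).trans (horb p)
    have hc := MulAction.card_orbit_mul_card_stabilizer_eq_card_group (S l) p
    rw [← Nat.card_eq_fintype_card, ← Nat.card_eq_fintype_card, ← Nat.card_eq_fintype_card] at hc
    rw [← hc]
    refine Nat.mul_le_mul h3 ?_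
    refine Nat.card_le_card_of_injective (fun y : MulAction.stabilizer (S l) p =>
      (⟨(y.1 : Perm (Fin n)), y.1.2.1, fun q hq => ?_⟩ : S (p :: l))) fun a b e => ?_
    · rcases List.mem_cons.mp hq with rfl | hq
      exacts [y.2, y.1.2.2 q hq]
    · exact Subtype.ext (Subtype.ext (congrArg (fun z : S (p :: l) => (z : Perm (Fin n))) e))
  have hmove : ∀ l, 1 < Nat.card (S l) → ∃ y ∈ S l, ∃ p, y p ≠ p := fun l hl => by
    haveI := Finite.one_lt_card_iff_nontrivial.mp hl
    obtain ⟨⟨y, hy⟩, hy1⟩ := exists_ne (1 : S l)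
    refine ⟨y, hy, ?_⟩
    by_contra! h
    exact hy1 (Subtype.ext (Equiv.ext h))
  obtain ⟨y1', hy1', p1, hp1⟩ := hmove [] (by rw [hS0]; omega)
  have c1 := hstep [] p1
  rw [hS0] at c1
  obtain ⟨y2', hy2', p2, hp2⟩ := hmove [p1] (by omega)
  have c2 := hstep [p1] p2
  obtain ⟨y3, hy3, p3, hp3⟩ := hmove [p2, p1] (by omega)
  -- three orbits of three points
  have o12 : p2 ∉ MulAction.orbit Y p1 := fun h => hp2 (stab_fixes hab hy2'.1 (hy2'.2 p1 (by simp)) h)
  have o13 : p3 ∉ MulAction.orbit Y p1 := fun h => hp3 (stab_fixes hab hy3.1 (hy3.2 p1 (by simp)) h)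
  have o23 : p3 ∉ MulAction.orbit Y p2 := fun h => hp3 (stab_fixes hab hy3.1 (hy3.2 p2 (by simp)) h)
  have hsize : ∀ p : Fin n, (∃ y ∈ Y, y p ≠ p) → Nat.card (MulAction.orbit Y p) = 3 := by
    rintro p ⟨y, hy, hyp⟩
    obtain ⟨k, hk⟩ := orbit_three Y hexp p
    have := horb p
    have h2 : 1 < Nat.card (MulAction.orbit Y p) := by
      rw [Finite.one_lt_card_iff_nontrivial]
      exact ⟨⟨⟨p, MulAction.mem_orbit_self p⟩, ⟨y p, ⟨⟨y, hy⟩, rfl⟩⟩, fun e => hyp (congrArg Subtype.val e).symm⟩⟩
    rw [hk] at this h2 ⊢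
    have hk1 : k = 1 := by
      by_contra hne
      rcases Nat.lt_or_ge k 1 with h | h
      · interval_cases k; omega
      · have := Nat.pow_le_pow_right (show 1 ≤ 3 by norm_num) (show 2 ≤ k by omega)
        omega
    rw [hk1, pow_one]
  let O : Fin n → Finset (Fin n) := fun p => Finset.univ.filter fun q => q ∈ MulAction.orbit Y p
  have hO : ∀ p : Fin n, (∃ y ∈ Y, y p ≠ p) → (O p).card = 3 := fun p hp => by
    rw [← hsize p hp, Nat.card_eq_fintype_card, Fintype.card_subtype]
  -- every orbit carries a three-cycle, so it holds a point fixed by the involution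
  have hfix : ∀ a b c : Fin n, 27 ≤ Nat.card Y → (∃ y ∈ Y, y a ≠ a) → (∃ y ∈ Y, y b ≠ b) → (∃ y ∈ Y, y c ≠ c) →
      b ∉ MulAction.orbit Y a → c ∉ MulAction.orbit Y a → c ∉ MulAction.orbit Y b →
      ∃ q ∈ MulAction.orbit Y c, f q = q := by
    intro a b c _ ha hb hc hab' hac hbc
    have c1 := hstep [] a
    rw [hS0] at c1
    have c2 := hstep [a] b
    obtain ⟨y, hy, d, hd⟩ := hmove [b, a] (by omega)
    have hnot : ∀ q, q ∈ MulAction.orbit Y a ∨ q ∈ MulAction.orbit Y b → y q = q := by
      rintro q (h | h)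
      exacts [stab_fixes hab hy.1 (hy.2 a (by simp)) h, stab_fixes hab hy.1 (hy.2 b (by simp)) h]
    have hd3 := hO d ⟨y, hy.1, hd⟩
    -- the support is one orbit
    have hsupp : ∀ q ∈ y.support, q ∈ MulAction.orbit Y c := by
      intro q hq
      have hq' := Perm.mem_support.mp hq
      by_contra hqc
      have hdis : ∀ {u v : Fin n}, v ∉ MulAction.orbit Y u → Disjoint (O u) (O v) := fun {u v} h => by
        rw [Finset.disjoint_left]
        intro w h1 h2
        simp only [O, Finset.mem_filter, Finset.mem_univ, true_and] at h1 h2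
        rw [← MulAction.orbit_eq_iff.mpr h1, MulAction.orbit_eq_iff.mpr h2] at h
        exact h (MulAction.mem_orbit_self v)
      have hqa : q ∉ MulAction.orbit Y a := fun h => hq' (hnot q (Or.inl h))
      have hqb : q ∉ MulAction.orbit Y b := fun h => hq' (hnot q (Or.inr h))
      have hu : ((O a ∪ O b ∪ O c) ∪ O q).card ≤ n := (Finset.card_le_univ _).trans (Fintype.card_fin n).le
      rw [Finset.card_union_of_disjoint (Finset.disjoint_union_left.mpr ⟨Finset.disjoint_union_left.mpr ⟨hdis hqa,
        hdis hqb⟩, hdis hqc⟩), Finset.card_union_of_disjoint (Finset.disjoint_union_left.mpr ⟨hdis hac, hdis hbc⟩),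
        Finset.card_union_of_disjoint (hdis hab'), hO a ha, hO b hb, hO c hc, hO q ⟨y, hy.1, hq'⟩] at hu
      omega
    have hcard3 : y.support.card = 3 := by
      have h1 : y.support.card ≤ 3 := by
        refine (Finset.card_le_card fun q hq => ?_).trans (hO c hc).le
        simp only [O, Finset.mem_filter, Finset.mem_univ, true_and]
        exact hsupp q hq
      have h2 := Perm.two_le_card_support_of_ne_one (f := y) fun e => hd (by rw [e]; rfl)
      by_contra hne
      have he : y.support.card = 2 := by omega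
      obtain ⟨u, v, huv, e⟩ := Perm.card_support_eq_two.mp he
      have := hexp y hy.1
      rw [e, pow_succ, pow_two, swap_mul_self, one_mul, ← Equiv.Perm.one_def.symm] at this
      exact huv (Equiv.swap_eq_one_iff.mp this)
    have hmap : y.support.map f.toEmbedding = y.support := by
      refine Finset.eq_of_subset_of_card_le (fun q hq => ?_) (Finset.card_map _).ge
      obtain ⟨r, hr, rfl⟩ := Finset.mem_map.mp hq
      rw [Perm.mem_support] at hr ⊢
      intro e
      refine hr ?_
      have := Perm.congr_fun (hinv y hy.1) r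
      rw [Perm.mul_apply, Perm.mul_apply] at this
      rw [Equiv.coe_toEmbedding] at e
      apply f.injective
      rw [this, Perm.inv_eq_iff_eq, e]
    obtain ⟨q, hq, hfq⟩ : ∃ q ∈ y.support, f q = q := by
      by_contra! hno
      -- a fixed-point-free involution of three points
      have hinvf : ∀ q, f (f q) = q := fun q => by rw [← Perm.mul_apply, hf]; rfl
      obtain ⟨u, v, w, huv, huw, hvw, e⟩ := Finset.card_eq_three.mp hcard3
      have hmem : ∀ q ∈ y.support, f q ∈ y.support := fun q hq => hmap ▸ Finset.mem_map_of_mem _ hq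
      rw [e] at hmem hno
      simp only [Finset.mem_insert, Finset.mem_singleton, forall_eq_or_imp, forall_eq] at hmem hno
      obtain ⟨hu, hv, hw⟩ := hmem
      obtain ⟨nu, nv, nw⟩ := hno
      have hi := f.injective
      rcases hu with hu | hu | hu <;> rcases hv with hv | hv | hv <;> rcases hw with hw | hw | hw <;>
        first
          | exact nu hu
          | exact nv hv
          | exact nw hw
          | exact huv (hi (hu.trans hv.symm))
          | exact huw (hi (hu.trans hw.symm))
          | exact hvw (hi (hv.trans hw.symm))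
          | (have := hinvf u; rw [hu] at this; first | exact hvw (this.symm.trans (hv ▸ rfl)) | omega)
    exact ⟨q, hsupp q hq, hfq⟩
  have m1 : ∃ y ∈ Y, y p1 ≠ p1 := ⟨y1', hy1'.1, hp1⟩
  have m2 : ∃ y ∈ Y, y p2 ≠ p2 := ⟨y2', hy2'.1, hp2⟩
  have m3 : ∃ y ∈ Y, y p3 ≠ p3 := ⟨y3, hy3.1, hp3⟩
  have sym : ∀ {u v : Fin n}, v ∉ MulAction.orbit Y u → u ∉ MulAction.orbit Y v := fun {u v} h h' =>
    h ((MulAction.orbit_eq_iff.mpr h') ▸ MulAction.mem_orbit_self v)
  obtain ⟨q3, hq3, f3⟩ := hfix p1 p2 p3 h27 m1 m2 m3 o12 o13 o23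
  obtain ⟨q2, hq2, f2⟩ := hfix p1 p3 p2 h27 m1 m3 m2 o13 o12 (sym o23)
  obtain ⟨q1, hq1, f1⟩ := hfix p2 p3 p1 h27 m2 m3 m1 o23 (sym o12) (sym o13)
  have ne : ∀ {u v q r : Fin n}, v ∉ MulAction.orbit Y u → q ∈ MulAction.orbit Y u → r ∈ MulAction.orbit Y v →
      q ≠ r := fun {u v q r} h hq hr e => by
    subst e
    rw [← MulAction.orbit_eq_iff.mpr hq, MulAction.orbit_eq_iff.mpr hr] at h
    exact h (MulAction.mem_orbit_self v)
  have h3 : ({q1, q2, q3} : Finset (Fin n)).card = 3 := by
    simp [ne o12 hq1 hq2, ne o13 hq1 hq3, ne o23 hq2 hq3]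
  have hd : Disjoint ({q1, q2, q3} : Finset (Fin n)) f.support := by
    rw [Finset.disjoint_left]
    intro q hq h
    simp only [Finset.mem_insert, Finset.mem_singleton] at hq
    rw [Perm.mem_support] at h
    rcases hq with rfl | rfl | rfl
    exacts [h f1, h f2, h f3]
  have := (Finset.card_le_univ (({q1, q2, q3} : Finset (Fin n)) ∪ f.support)).trans (Fintype.card_fin n).le
  rw [Finset.card_union_of_disjoint hd, h3] at this
  omega

end CfsgAltCentInv
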