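import Cfsg.Agent.Lib.AltCentInv.Cover
import Cfsg.Agent.Lib.AltCentInv.Small.Perms
import Cfsg.Agent.Lib.ZStar.Main
import Cfsg.Agent.Lib.Basic
import Mathlib.GroupTheory.Perm.Cycle.Type

/-!
In degrees nine and ten, few elements of order three centralise two disjoint three-cycles and are inverted by
the involution.
-/

set_option autoImplicit false
set_option linter.style.haveILetI false
set_option linter.unusedSectionVars false

namespace CfsgAltCentInv

open Equiv Subgroup
open Cfsg

variable {n : ℕ}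

theorem three_support {a : Perm (Fin n)} (ha : a.IsThreeCycle) {u : Fin n} (hu : a u ≠ u) :
    a.support = {u, a u, a (a u)} ∧ a (a (a u)) = u ∧ a (a u) ≠ u ∧ a (a u) ≠ a u := by
  have h3 : a * a * a = 1 := by rw [← pow_three', ← ha.orderOf, pow_orderOf_eq_one]
  have e3 : a (a (a u)) = u := Perm.congr_fun h3 u
  have n1 : a (a u) ≠ u := fun e => hu (by rw [e] at e3; exact e3)
  have n2 : a (a u) ≠ a u := fun e => hu (a.injective e)
  refine ⟨(Finset.eq_of_subset_of_card_le (fun w hw => ?_) ?_).symm, e3, n1, n2⟩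
  · simp only [Finset.mem_insert, Finset.mem_singleton] at hw
    rw [Perm.mem_support]
    rcases hw with rfl | rfl | rfl
    exacts [hu, n2, fun e => n2 (a.injective e)]
  · rw [ha.card_support, Finset.card_eq_three.mpr ⟨u, a u, a (a u), hu.symm, n1.symm, n2.symm, rfl⟩]

/-- An involution commuting with a three-cycle fixes the points moved by it. -/
theorem fix_three {a f : Perm (Fin n)} (ha : a.IsThreeCycle) (hc : Commute f a) (hf : f * f = 1) {u : Fin n}
    (hu : a u ≠ u) : f u = u := by
  obtain ⟨hs, e3, n1, n2⟩ := three_support ha hu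
  have hcv : ∀ w, f (a w) = a (f w) := fun w => Perm.congr_fun hc.eq w
  have hff : f (f u) = u := Perm.congr_fun hf u
  have hm : f u ∈ a.support := Perm.mem_support.mpr fun e => hu (f.injective (by rw [hcv, e]))
  rw [hs] at hm
  simp only [Finset.mem_insert, Finset.mem_singleton] at hm
  rcases hm with e | e | e
  · exact e
  · rw [e, hcv, e] at hff; exact absurd hff n1
  · rw [e, hcv, hcv, e, e3] at hff; exact absurd hff hu

/-- An element commuting with a three-cycle acts as a power of it on the moved points. -/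
theorem pow_on_three {a y : Perm (Fin n)} (ha : a.IsThreeCycle) (hc : Commute y a) :
    ∃ j : ℕ, ∀ u, a u ≠ u → y u = (a ^ j) u := by
  have hcv : ∀ w, y (a w) = a (y w) := fun w => Perm.congr_fun hc.eq w
  obtain ⟨u0, hu0⟩ : ∃ u, a u ≠ u := by
    by_contra! h
    exact ha.isCycle.ne_one (Equiv.ext h)
  obtain ⟨hs, e3, -, -⟩ := three_support ha hu0
  have hm : y u0 ∈ a.support := Perm.mem_support.mpr fun e => hu0 (y.injective (by rw [hcv, e]))
  rw [hs] at hm
  simp only [Finset.mem_insert, Finset.mem_singleton] at hm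
  obtain ⟨j, hj⟩ : ∃ j : ℕ, y u0 = (a ^ j) u0 := by
    rcases hm with e | e | e
    exacts [⟨0, e⟩, ⟨1, e⟩, ⟨2, e⟩]
  refine ⟨j, fun u hu => ?_⟩
  have : u ∈ a.support := Perm.mem_support.mpr hu
  rw [hs] at this
  simp only [Finset.mem_insert, Finset.mem_singleton] at this
  have hsw : ∀ w, a ((a ^ j) w) = (a ^ j) (a w) := fun w => Perm.congr_fun ((Commute.refl a).pow_right j).eq w
  rcases this with rfl | rfl | rfl
  · exact hj
  · rw [hcv, hj, hsw]
  · rw [hcv, hcv, hj, hsw, hsw]

theorem comm_four : (swap 0 1 * swap 1 2 : Perm (Fin 4)) * (swap 0 1 * swap 1 3) * (swap 0 1 * swap 1 2)⁻¹ *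
    (swap 0 1 * swap 1 3)⁻¹ = swap 0 1 * swap 2 3 := by decide +kernel

variable {G : Type*} [Group G] [Finite G] {z : G} {π : centralizer ({z} : Set G) →* Perm (Fin n)}
  {zC : centralizer ({z} : Set G)}

theorem Cov.three_unique {E : Type*} [Group E] [Finite E] {π : E →* Perm (Fin n)} {zE : E} (h : Cov π zE) {u v : E}
    (e : π u = π v) (hu : u ^ 3 = 1) (hv : v ^ 3 = 1) : u = v := by
  rcases h.eq_or e with h' | h'
  · exact h'
  · exfalso
    rw [h', (h.z_comm v).symm.mul_pow, hv, one_mul, pow_succ, pow_two, h.z_sq, one_mul] at hu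
    exact h.ne hu

/-- The elements inverted by the involution and centralising two three-cycles. -/
def invSet (z A A' : G) : Set G :=
  {w | z * w * z⁻¹ = w⁻¹ ∧ w ^ 3 = 1 ∧ Commute w A ∧ Commute w A'}

theorem invSet_le (hzC : (zC : G) = z) (h : Cov π zC) (hn9 : 9 ≤ n) (hn10 : n ≤ 10)
    (hconj : ∀ f : centralizer ({z} : Set G), f * f = 1 → f ≠ 1 → f ≠ zC → ∃ g : G, g * z * g⁻¹ = f)
    {a a' : centralizer ({z} : Set G)} (ha3 : a ^ 3 = 1) (hac : (π a).IsThreeCycle) (ha3' : a' ^ 3 = 1)
    (hac' : (π a').IsThreeCycle) (hdis : ∀ u, π a' u ≠ u → π a u = u) :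
    (invSet z (a : G) a').ncard ≤ 9 := by
  classical
  set A : G := (a : G) with hA
  set CA := centralizer ({A} : Set G) with hCA
  have hzz : z * z = 1 := by rw [← hzC, ← Subgroup.coe_mul, h.z_sq]; rfl
  have hz1 : z ≠ 1 := fun e => h.ne (Subtype.ext (hzC.trans e))
  have hA3 : A ^ 3 = 1 := by rw [hA, ← Subgroup.coe_pow, ha3]; rfl
  have hzA : Commute z A := (Subgroup.mem_centralizer_singleton_iff.mp a.2).symm
  have hhalf : ∀ i : ℤ, A ^ i * A ^ i = 1 → A ^ i = 1 := fun i hi => by
    have h3 : (A ^ i) ^ 3 = 1 := by rw [← zpow_natCast, ← zpow_mul, mul_comm, zpow_mul, zpow_natCast, hA3, one_zpow]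
    rw [pow_three', hi, one_mul] at h3
    exact h3
  set zA : CA := ⟨z, Subgroup.mem_centralizer_singleton_iff.mpr hzA.eq⟩ with hzAdef
  have hzAo : orderOf zA = 2 := by
    rw [← Subgroup.orderOf_coe]
    exact orderOf_eq_prime (by rw [pow_two]; exact hzz) hz1
  have hiso : IsIsolated zA := by
    intro g hg
    set f := g * zA * g⁻¹ with hf
    have hfz : (f : G) * z = z * f := (congrArg Subtype.val hg.eq).symm
    set fE : centralizer ({z} : Set G) := ⟨f, Subgroup.mem_centralizer_singleton_iff.mpr hfz⟩ with hfE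
    have hff : fE * fE = 1 := Subtype.ext (by
      show (f : G) * f = 1
      rw [hf, Subgroup.coe_mul, Subgroup.coe_mul, Subgroup.coe_inv]
      show (g : G) * z * (g : G)⁻¹ * ((g : G) * z * (g : G)⁻¹) = 1
      rw [show (g : G) * z * (g : G)⁻¹ * ((g : G) * z * (g : G)⁻¹) = (g : G) * (z * z) * (g : G)⁻¹ by group, hzz,
        mul_one, mul_inv_cancel])
    have hf1 : fE ≠ 1 := fun e => hz1 (by
      have e' : (g : G) * z * (g : G)⁻¹ = 1 := congrArg Subtype.val e
      exact conj_eq_one_iff.mp e')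
    by_contra hne
    have hfne : fE ≠ zC := fun e => hne (Subtype.ext ((congrArg Subtype.val e).trans hzC))
    obtain ⟨h2, h8⟩ : π fE * π fE = 1 ∧ 8 ≤ (π fE).support.card := by
      have h2 : π fE * π fE = 1 := by rw [← map_mul, hff, map_one]
      have hd := h.four_dvd fE h2 hff
      have hne0 : (π fE).support.card ≠ 0 := fun e => by
        rcases (h.ker fE).mp (Perm.support_eq_empty_iff.mp (Finset.card_eq_zero.mp e)) with e' | e'
        exacts [hf1 e', hfne e']
      exact ⟨h2, Nat.le_of_dvd (by omega) hd⟩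
    have hfA : Commute (π fE) (π a) := by
      refine Commute.map (Subtype.ext ?_) π
      exact Subgroup.mem_centralizer_singleton_iff.mp f.2
    have hd : Disjoint (π fE).support (π a).support := by
      rw [Finset.disjoint_left]
      intro u hu hu'
      exact Perm.mem_support.mp hu (fix_three hac hfA h2 (Perm.mem_support.mp hu'))
    have := (Finset.card_le_univ ((π fE).support ∪ (π a).support)).trans (Fintype.card_fin n).le
    rw [Finset.card_union_of_disjoint hd, hac.card_support] at this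
    omega
  set O := pPrimeCore 2 CA with hO
  set W : Subgroup G := O.map CA.subtype with hW
  have hWodd : ¬ 2 ∣ Nat.card W := by
    rw [hW, Subgroup.card_map_of_injective Subtype.val_injective]
    exact CfsgLib.not_dvd_card_pPrimeCore Nat.prime_two
  have hzW : z ∉ W := fun hm => hWodd (by
    have h2 : orderOf z = 2 := orderOf_eq_prime (by rw [pow_two]; exact hzz) hz1
    exact h2 ▸ Subgroup.orderOf_dvd_natCard W hm)
  have hWC : ∀ w ∈ W, Commute w A := by
    rintro _ ⟨x, -, rfl⟩
    exact Subgroup.mem_centralizer_singleton_iff.mp x.2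
  have hstep : ∀ w : G, z * w * z⁻¹ = w⁻¹ → w ^ 3 = 1 → Commute w A → w ∈ W := by
    intro w hw h3 hc
    have hmem := CfsgLib.ZStar.commutator_mem hzAo hiso ⟨w, Subgroup.mem_centralizer_singleton_iff.mpr hc.eq⟩
    refine ⟨_, hmem, ?_⟩
    show z * w * z⁻¹ * w⁻¹ = w
    rw [hw]
    refine eq_of_mul_inv_eq_one ?_
    rw [show w⁻¹ * w⁻¹ * w⁻¹ = (w * w * w)⁻¹ by group, ← pow_three', h3, inv_one]
  have hAW : A ∈ W := by
    let AA : CA := ⟨A, Subgroup.mem_centralizer_singleton_iff.mpr rfl⟩
    haveI : (zpowers AA).Normal := ⟨fun x hx g => by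
      obtain ⟨k, rfl⟩ := Subgroup.mem_zpowers_iff.mp hx
      have hc : Commute g AA := Subtype.ext (Subgroup.mem_centralizer_singleton_iff.mp g.2)
      rw [(hc.zpow_right k).eq, mul_inv_cancel_right]
      exact hx⟩
    have hcop : (Nat.card (zpowers AA)).Coprime 2 := by
      rw [Nat.card_zpowers]
      refine Nat.Coprime.coprime_dvd_left (orderOf_dvd_of_pow_eq_one (n := 3) ?_) (by norm_num)
      exact Subtype.ext hA3
    exact ⟨AA, CfsgLib.le_pPrimeCore hcop (mem_zpowers AA), rfl⟩
  -- the normaliser of the cycle acts on the core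
  let N0 : Subgroup G := Subgroup.normalizer (zpowers A : Set G)
  have hNC : ∀ g ∈ N0, ∀ x, x ∈ CA → g * x * g⁻¹ ∈ CA := by
    intro g hg x hx
    rw [Subgroup.mem_centralizer_singleton_iff] at hx ⊢
    obtain ⟨i, hi⟩ := Subgroup.mem_zpowers_iff.mp
      ((Subgroup.mem_normalizer_iff''.mp hg A).mp (mem_zpowers A))
    have hxc : Commute x (A ^ i) := (show Commute x A from hx).zpow_right i
    rw [hi] at hxc
    calc g * x * g⁻¹ * A = g * (x * (g⁻¹ * A * g)) * g⁻¹ := by group
      _ = g * ((g⁻¹ * A * g) * x) * g⁻¹ := by rw [hxc.eq]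
      _ = A * (g * x * g⁻¹) := by group
  have hNW : ∀ g ∈ N0, ∀ w ∈ W, g * w * g⁻¹ ∈ W := by
    rintro g hg _ ⟨x, hx, rfl⟩
    let e : CA ≃* CA :=
      { toFun := fun y => ⟨g * y * g⁻¹, hNC g hg _ y.2⟩
        invFun := fun y => ⟨g⁻¹ * y * g, by simpa using hNC g⁻¹ (inv_mem hg) _ y.2⟩
        left_inv := fun y => Subtype.ext (by simp [mul_assoc])
        right_inv := fun y => Subtype.ext (by simp [mul_assoc])
        map_mul' := fun y y' => Subtype.ext (by simp [mul_assoc]) }
    refine ⟨e x, ?_, rfl⟩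
    have := Subgroup.characteristic_iff_map_eq.mp (inferInstance : O.Characteristic) e
    rw [← this]
    exact ⟨x, hx, rfl⟩
  have hmemN : ∀ g : G, Commute g A ∨ g * A * g⁻¹ = A⁻¹ → g ∈ N0 := by
    intro g hg
    have hmap : (zpowers A).map (MulAut.conj g).toMonoidHom = zpowers A := by
      rw [MonoidHom.map_zpowers]
      rcases hg with hg | hg
      · rw [show (MulAut.conj g).toMonoidHom A = A by show g * A * g⁻¹ = A; rw [hg.eq, mul_inv_cancel_right]]
      · rw [show (MulAut.conj g).toMonoidHom A = A⁻¹ from hg, zpowers_inv]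
    exact CfsgLib.Local.mem_normalizer_of_map_conj_eq hmap
  -- the elements centralised by the involution
  have hfixed : ∀ w ∈ W, Commute w z → w ∈ zpowers A := by
    intro w hw hwz
    let R := {u : Fin n // π a u = u}
    let K : Subgroup (centralizer ({z} : Set G)) := centralizer {a}
    have hinv : ∀ x ∈ K, ∀ u, π a (π x u) = π x u ↔ π a u = u := fun x hx u => by
      have hc := (Commute.map (show Commute x a from Subgroup.mem_centralizer_singleton_iff.mp hx) π)
      rw [← Perm.mul_apply, ← hc.eq, Perm.mul_apply]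
      exact (π x).injective.eq_iff
    let ρ : K →* Perm R :=
      { toFun := fun x => (π x.1).subtypePerm (hinv x.1 x.2)
        map_one' := Equiv.ext fun u => Subtype.ext (by simp [Perm.subtypePerm_apply])
        map_mul' := fun x y => Equiv.ext fun u => Subtype.ext (by simp [Perm.subtypePerm_apply]) }
    let NK : Subgroup K := W.comap ((centralizer ({z} : Set G)).subtype.comp K.subtype)
    haveI : NK.Normal := ⟨fun x hx g => by
      refine hNW _ (hmemN _ (Or.inl ?_)) _ hx
      exact congrArg Subtype.val (Subgroup.mem_centralizer_singleton_iff.mp g.2)⟩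
    have hNodd : ¬ 2 ∣ Nat.card NK := fun hd => hWodd (hd.trans (by
      rw [← Subgroup.card_map_of_injective (f := (centralizer ({z} : Set G)).subtype.comp K.subtype)
        (K := NK) (Subtype.val_injective.comp Subtype.val_injective)]
      exact Subgroup.card_dvd_of_le (by rintro _ ⟨x, hx, rfl⟩; exact hx)))
    have hsgn : ∀ σ ∈ NK.map ρ, Perm.sign σ = 1 := by
      rintro _ ⟨x, hx, rfl⟩
      have hodd : Odd (orderOf x) := Nat.not_even_iff_odd.mp fun he =>
        hNodd (he.two_dvd.trans (Subgroup.orderOf_dvd_natCard NK hx))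
      have := congrArg Perm.sign (congrArg ρ (pow_orderOf_eq_one x))
      rw [map_pow, map_pow, map_one, map_one] at this
      obtain ⟨j, hj⟩ := hodd
      rwa [hj, pow_succ, pow_mul, Int.units_sq, one_pow, one_mul] at this
    have hcardR : 5 ≤ Nat.card R := by
      rw [Nat.card_eq_fintype_card, Fintype.card_subtype]
      have := Finset.card_filter_add_card_filter_not (s := (Finset.univ : Finset (Fin n))) (fun u => π a u = u)
      rw [Finset.card_univ, Fintype.card_fin] at this
      have h3 := hac.card_support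
      rw [show (π a).support = Finset.univ.filter fun u => ¬ π a u = u by ext u; simp] at h3
      omega
    haveI : IsSimpleGroup (alternatingGroup R) := alternatingGroup.isSimpleGroup hcardR
    have hlift : ∀ r : alternatingGroup R, ∃ k : K, ρ k = (r : Perm R) := by
      intro r
      obtain ⟨g, hg⟩ := h.cover.onto (Perm.ofSubtype (r : Perm R))
        (by rw [Perm.sign_ofSubtype]; exact Perm.mem_alternatingGroup.mp r.2)
      have hc : Commute a g := h.cover.commute_disjoint a (π g) (h.cover.even g) (fun u hu => by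
        by_contra hne
        exact hu (by rw [hg]; exact Perm.ofSubtype_apply_of_not_mem _ hne)) g rfl
      refine ⟨⟨g, Subgroup.mem_centralizer_singleton_iff.mpr hc.eq.symm⟩, Equiv.ext fun u => Subtype.ext ?_⟩
      show π g u = _
      rw [hg, Perm.ofSubtype_apply_coe]
    let M : Subgroup (alternatingGroup R) := (NK.map ρ).subgroupOf _
    haveI hMn : M.Normal := ⟨fun m hm r => by
      obtain ⟨k, hk⟩ := hlift r
      obtain ⟨x, hx, e⟩ := Subgroup.mem_subgroupOf.mp hm
      refine Subgroup.mem_subgroupOf.mpr ⟨k * x * k⁻¹, Subgroup.Normal.conj_mem inferInstance x hx k, ?_⟩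
      rw [map_mul, map_mul, map_inv, hk, e]
      rfl⟩
    have hM : M = ⊥ := by
      refine hMn.eq_bot_or_eq_top.resolve_right fun htop => hNodd ?_
      have hle : alternatingGroup R ≤ NK.map ρ := fun r hr => Subgroup.mem_subgroupOf.mp
        (show (⟨r, hr⟩ : alternatingGroup R) ∈ M by rw [htop]; exact mem_top _)
      refine (dvd_trans ?_ (Subgroup.card_dvd_of_le hle)).trans (Subgroup.card_map_dvd _ _)
      haveI : Nontrivial R := Finite.one_lt_card_iff_nontrivial.mp (by omega)
      have h2 : 2 * Nat.card (alternatingGroup R) = (Nat.card R).factorial := by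
        rw [two_mul_nat_card_alternatingGroup, Nat.card_perm]
      have h4 : 4 ∣ (Nat.card R).factorial :=
        (show 4 ∣ (5 : ℕ).factorial by decide).trans (Nat.factorial_dvd_factorial hcardR)
      omega
    set wE : centralizer ({z} : Set G) := ⟨w, Subgroup.mem_centralizer_singleton_iff.mpr hwz.eq⟩ with hwE
    have hwa : Commute wE a := Subtype.ext (hWC w hw).eq
    have hwK : wE ∈ K := Subgroup.mem_centralizer_singleton_iff.mpr hwa.eq
    have hρ : ρ ⟨wE, hwK⟩ = 1 := by
      have hm : ρ ⟨wE, hwK⟩ ∈ NK.map ρ := ⟨_, (show (⟨wE, hwK⟩ : K) ∈ NK from hw), rfl⟩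
      have : (⟨_, Perm.mem_alternatingGroup.mpr (hsgn _ hm)⟩ : alternatingGroup R) ∈ M := Subgroup.mem_subgroupOf.mpr hm
      rw [hM, Subgroup.mem_bot] at this
      exact congrArg Subtype.val this
    obtain ⟨j, hj⟩ := pow_on_three hac (hwa.map π)
    have hπw : π wE = π (a ^ j) := by
      ext u : 1
      rw [map_pow]
      by_cases hu : π a u = u
      · rw [Perm.pow_apply_eq_self_of_apply_eq_self hu]
        exact congrArg Subtype.val (Perm.congr_fun hρ ⟨u, hu⟩)
      · exact hj u hu
    rcases h.eq_or hπw with e | e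
    · exact Subgroup.mem_zpowers_iff.mpr ⟨(j : ℤ), by
        rw [zpow_natCast, show w = ((a ^ j : centralizer ({z} : Set G)) : G) from congrArg Subtype.val e]; rfl⟩
    · refine absurd ?_ hzW
      have e' : w = A ^ j * z := by
        have := congrArg Subtype.val e
        rw [Subgroup.coe_mul, Subgroup.coe_pow, hzC] at this
        exact this
      have := W.mul_mem (W.inv_mem (W.pow_mem hAW j)) hw
      rwa [e', inv_mul_cancel_left] at this
  -- the quotient by the cycle
  haveI : ((zpowers A).subgroupOf W).Normal := ⟨fun x hx g => by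
    rw [Subgroup.mem_subgroupOf] at hx ⊢
    obtain ⟨k, hk⟩ := Subgroup.mem_zpowers_iff.mp hx
    rw [Subgroup.coe_mul, Subgroup.coe_mul, Subgroup.coe_inv, ← hk, ((hWC g g.2).zpow_right k).eq,
      mul_inv_cancel_right]
    exact zpow_mem (mem_zpowers A) k⟩
  let N := (zpowers A).subgroupOf W
  let Q := W ⧸ N
  let mk := QuotientGroup.mk' N
  have hmk : ∀ x y : W, mk x = mk y → ∃ i : ℤ, (y : G) = x * A ^ i := fun x y e => by
    obtain ⟨i, hi⟩ := Subgroup.mem_zpowers_iff.mp (Subgroup.mem_subgroupOf.mp ((QuotientGroup.eq (s := N)).mp e))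
    exact ⟨i, by rw [hi, Subgroup.coe_mul, Subgroup.coe_inv, mul_inv_cancel_left]⟩
  let cW : ∀ g : G, g ∈ N0 → W →* W := fun g hg =>
    { toFun := fun w => ⟨g * w * g⁻¹, hNW g hg _ w.2⟩
      map_one' := Subtype.ext (by simp)
      map_mul' := fun x y => Subtype.ext (by simp [mul_assoc]) }
  obtain ⟨cQ, hcQ⟩ : ∃ cQ : ∀ g : G, g ∈ N0 → (Q →* Q),
      ∀ g hg (x : W), cQ g hg (mk x) = mk ⟨g * x * g⁻¹, hNW g hg _ x.2⟩ :=
    ⟨fun g hg => QuotientGroup.map N N (cW g hg) (fun x hx => by
      rw [Subgroup.mem_comap, Subgroup.mem_subgroupOf]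
      exact (Subgroup.mem_normalizer_iff.mp hg _).mp (Subgroup.mem_subgroupOf.mp hx)), fun g hg x => rfl⟩
  have hcomp : ∀ g k hg hk hgk, ∀ q, cQ (g * k) hgk q = cQ g hg (cQ k hk q) := fun g k hg hk hgk q => by
    obtain ⟨x, rfl⟩ := QuotientGroup.mk'_surjective N q
    rw [hcQ, hcQ, hcQ]
    exact congrArg mk (Subtype.ext (by simp [mul_assoc]))
  have hzN : z ∈ N0 := hmemN z (Or.inl hzA)
  have hzfix : ∀ q, cQ z hzN q = q → q = 1 := fun q hq => by
    obtain ⟨x, rfl⟩ := QuotientGroup.mk'_surjective N q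
    rw [hcQ] at hq
    obtain ⟨i, hi⟩ := hmk _ _ hq.symm
    have hi' : z * x * z⁻¹ = (x : G) * A ^ i := hi
    have hzi : z * A ^ i * z⁻¹ = A ^ i := by rw [(hzA.zpow_right i).eq, mul_inv_cancel_right]
    have e2 : (x : G) = x * A ^ i * A ^ i := by
      calc (x : G) = z * (z * x * z⁻¹) * z⁻¹ := by
            rw [show z * (z * x * z⁻¹) * z⁻¹ = z * z * x * (z * z)⁻¹ by group, hzz]; group
        _ = z * ((x : G) * A ^ i) * z⁻¹ := by rw [hi']
        _ = z * x * z⁻¹ * (z * A ^ i * z⁻¹) := by group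
        _ = _ := by rw [hzi, hi']
    rw [mul_assoc] at e2
    rw [hhalf i (mul_eq_left.mp e2.symm), mul_one] at hi'
    refine (QuotientGroup.eq_one_iff x).mpr (Subgroup.mem_subgroupOf.mpr (hfixed x x.2 ?_))
    exact (mul_inv_eq_iff_eq_mul.mp hi').symm
  have hinvz : ∀ q, cQ z hzN q = q⁻¹ := by
    have hinj : Function.Injective fun q => q⁻¹ * cQ z hzN q := fun p q e => by
      have e' : p⁻¹ * cQ z hzN p = q⁻¹ * cQ z hzN q := e
      have := hzfix (q * p⁻¹) (by
        rw [map_mul, map_inv, ← mul_inv_eq_one]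
        calc cQ z hzN q * (cQ z hzN p)⁻¹ * (q * p⁻¹)⁻¹ = q * (q⁻¹ * cQ z hzN q) * (p⁻¹ * cQ z hzN p)⁻¹ * q⁻¹ := by group
          _ = 1 := by rw [e']; group)
      exact (mul_inv_eq_one.mp this).symm
    intro q
    obtain ⟨r, rfl⟩ := (Finite.injective_iff_surjective.mp hinj) q
    have h2 : cQ z hzN (cQ z hzN r) = r := by
      rw [← hcomp z z hzN hzN (hzz ▸ one_mem N0)]
      obtain ⟨x, rfl⟩ := QuotientGroup.mk'_surjective N r
      rw [hcQ]
      exact congrArg mk (Subtype.ext (by simp [hzz]))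
    show cQ z hzN (r⁻¹ * cQ z hzN r) = _
    rw [map_mul, map_inv, h2, mul_inv_rev, inv_inv]
  have hQc : ∀ p q : Q, p * q = q * p := fun p q => by
    have := hinvz (p⁻¹ * q⁻¹)
    rw [map_mul, map_inv, map_inv, hinvz, hinvz, inv_inv, inv_inv, mul_inv_rev, inv_inv, inv_inv] at this
    exact this
  let Q3 : Set Q := {q | q ^ 3 = 1}
  -- an involution inverting the cycle
  obtain ⟨u, hu2, hu1, huz, huA, huc⟩ : ∃ u : G, u * u = 1 ∧ u ≠ 1 ∧ u ≠ z ∧ u * A * u⁻¹ = A⁻¹ ∧ Commute u z := by
    obtain ⟨p, hp⟩ : ∃ p, π a p ≠ p := by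
      by_contra! he
      exact hac.isCycle.ne_one (Equiv.ext he)
    obtain ⟨hs, e3, n1, n2⟩ := three_support hac hp
    let R := {w : Fin n // π a w = w}
    have hR : 6 ≤ Fintype.card R := by
      rw [Fintype.card_subtype]
      have := Finset.card_filter_add_card_filter_not (s := (Finset.univ : Finset (Fin n))) (fun u => π a u = u)
      rw [Finset.card_univ, Fintype.card_fin] at this
      have h3 := hac.card_support
      rw [show (π a).support = Finset.univ.filter fun u => ¬ π a u = u by ext u; simp] at h3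
      omega
    obtain ⟨r⟩ : Nonempty (Fin 6 ↪ R) := Function.Embedding.nonempty_of_card_le (by rw [Fintype.card_fin]; exact hR)
    let g : Fin 2 ⊕ Fin 6 → Fin n := fun i => i.elim (fun j => if j = 0 then π a p else π a (π a p)) (fun j => r j)
    have hg : Function.Injective g := by
      rintro (i | i) (j | j) e
      · fin_cases i <;> fin_cases j <;> simp [g] at e ⊢
        · exact absurd e.symm hp
        · exact absurd e hp
      · exfalso
        have hr : π a (g (.inl i)) = g (.inl i) := e ▸ (r j).2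
        fin_cases i
        · exact n2 (by simpa [g] using hr)
        · exact n2 ((π a).injective (by simpa [g] using hr))
      · exfalso
        have hr : π a (g (.inl j)) = g (.inl j) := e ▸ (r i).2
        fin_cases j
        · exact n2 (by simpa [g] using hr)
        · exact n2 ((π a).injective (by simpa [g] using hr))
      · exact congrArg Sum.inr (r.injective (Subtype.ext e))
    let c : Perm (Fin 2 ⊕ Fin 6) := Equiv.sumCongr (swap 0 1) (swap 0 1 * swap 2 3 * swap 4 5)
    let v : Perm (Fin n) := Perm.viaEmbedding c ⟨g, hg⟩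
    obtain ⟨uE, huE⟩ := h.cover.onto v (by
      show Perm.sign (Perm.viaEmbedding c ⟨g, hg⟩) = 1
      rw [Perm.viaEmbedding, Perm.sign_extendDomain]
      simp only [c]
      decide +kernel)
    have hvg : ∀ i, π uE (g i) = g (c i) := fun i => by rw [huE]; exact Perm.viaEmbedding_apply c ⟨g, hg⟩ i
    have hvo : ∀ w, w ∉ Set.range g → π uE w = w := fun w hw => by
      rw [huE]; exact Perm.viaEmbedding_apply_of_notMem c ⟨g, hg⟩ w hw
    have hcc : ∀ i, c (c i) = i := by simp only [c]; decide +kernel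
    have hcf : ∀ i, c i ≠ i := by simp only [c]; decide +kernel
    have hv2 : π uE * π uE = 1 := by
      ext w : 1
      rw [Perm.mul_apply, Perm.one_apply]
      by_cases hw : w ∈ Set.range g
      · obtain ⟨i, rfl⟩ := hw; rw [hvg, hvg, hcc]
      · rw [hvo w hw, hvo w hw]
    have hsupp : (π uE).support.card = 8 := by
      have he : (π uE).support = Finset.univ.map ⟨g, hg⟩ := by
        ext w
        simp only [Perm.mem_support, Finset.mem_map, Finset.mem_univ, true_and, Function.Embedding.coeFn_mk]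
        refine ⟨fun hw => ?_, ?_⟩
        · by_contra hno; exact hw (hvo w fun ⟨i, e⟩ => hno ⟨i, e⟩)
        · rintro ⟨i, rfl⟩; rw [hvg]; exact fun e => hcf i (hg e)
      rw [he, Finset.card_map]; rfl
    have hsq : uE * uE = 1 := by
      rw [(h.invol_sq uE hv2).2, hsupp, show 8 / 4 = 2 from rfl, pow_two, h.z_sq]
    have hu0 : π uE ≠ 1 := fun e => by rw [e, Perm.support_one, Finset.card_empty] at hsupp; omega
    have hconjA : π uE * π a * (π uE)⁻¹ = (π a)⁻¹ := by
      rw [mul_inv_eq_iff_eq_mul, eq_inv_mul_iff_mul_eq]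
      have hp' : π uE p = p := hvo p fun ⟨i, e⟩ => by
        rcases i with i | i
        · fin_cases i
          · exact hp (by simpa [g] using e)
          · exact n1 (by simpa [g] using e)
        · exact hp (show π a p = p by rw [← e]; exact (r i).2)
      have h1 : π uE (π a p) = π a (π a p) := (hvg (.inl 0)).trans (by simp [g, c])
      have h2' : π uE (π a (π a p)) = π a p := by
        rw [← h1, ← Perm.mul_apply, hv2]; rfl
      ext w : 1
      rw [Perm.mul_apply, Perm.mul_apply]
      by_cases hw : π a w = w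
      · rw [hw]
        have hne : π a (π uE w) = π uE w := by
          by_contra hne
          have hm := Perm.mem_support.mpr hne
          rw [hs] at hm
          simp only [Finset.mem_insert, Finset.mem_singleton] at hm
          rcases hm with e | e | e
          · exact hp (by rw [← hp'] at e; rwa [(π uE).injective e] at hw)
          · rw [← h2'] at e; rw [(π uE).injective e] at hw; exact n2 ((π a).injective hw)
          · rw [← h1] at e; rw [(π uE).injective e] at hw; exact n2 hw
        exact hne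
      · have hm := Perm.mem_support.mpr hw
        rw [hs] at hm
        simp only [Finset.mem_insert, Finset.mem_singleton] at hm
        rcases hm with rfl | rfl | rfl
        · rw [h1, e3, hp']
        · rw [h2', h1]
        · rw [e3, hp', h2']
    have huA : uE * a * uE⁻¹ = a⁻¹ := h.three_unique (by rw [map_mul, map_mul, map_inv, map_inv, hconjA])
      (by rw [conj_pow, ha3, mul_one, mul_inv_cancel]) (by rw [inv_pow, ha3, inv_one])
    refine ⟨uE, congrArg Subtype.val hsq, fun e => hu0 (by rw [show uE = 1 from Subtype.ext e, map_one]),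
      fun e => hu0 (by rw [show uE = zC from Subtype.ext (e.trans hzC.symm), h.pi_z]), congrArg Subtype.val huA,
      Subgroup.mem_centralizer_singleton_iff.mp uE.2⟩
  -- the elements fixed by such an involution
  have hnine : ∀ v : G, v * v = 1 → v ≠ 1 → v ≠ z → (hvA : v * A * v⁻¹ = A⁻¹) → Commute v z →
      {q : Q | q ^ 3 = 1 ∧ cQ v (hmemN v (Or.inr hvA)) q = q}.ncard ≤ 9 := by
    intro v hv2 hv1 hvz hvA hvc
    obtain ⟨g, hg⟩ := hconj ⟨v, Subgroup.mem_centralizer_singleton_iff.mpr hvc.eq⟩ (Subtype.ext hv2)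
      (fun e => hv1 (congrArg Subtype.val e)) (fun e => hvz ((congrArg Subtype.val e).trans hzC))
    change g * z * g⁻¹ = v at hg
    have hvAi : ∀ i : ℤ, v * A ^ i * v⁻¹ = A ^ (-i) := fun i => by
      rw [← conj_zpow, hvA, inv_zpow, zpow_neg]
    have hcommA : ∀ i : ℤ, Commute (A ^ i) v → A ^ i = 1 := fun i hi => by
      have := hvAi i
      rw [← hi.eq, mul_inv_cancel_right, zpow_neg] at this
      exact hhalf i (by nth_rw 1 [this]; exact inv_mul_cancel _)
    have hvz' : Commute (z : G) v := hvc.symm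
    let X : Subgroup G :=
      { carrier := {w | w ∈ W ∧ Commute w v ∧ z * w * z⁻¹ = w⁻¹ ∧ w ^ 3 = 1}
        one_mem' := ⟨one_mem _, Commute.one_left _, by simp, one_pow 3⟩
        mul_mem' := by
          rintro x y ⟨hx, hxv, hxz, hx3⟩ ⟨hy, hyv, hyz, hy3⟩
          have hxy : x * y = y * x := by
            have e : mk (⟨x, hx⟩ * ⟨y, hy⟩ : W) = mk (⟨y, hy⟩ * ⟨x, hx⟩) := by rw [map_mul, map_mul, hQc]
            obtain ⟨i, hi⟩ := hmk _ _ e
            change y * x = x * y * A ^ i at hi
            have : A ^ i = (x * y)⁻¹ * (y * x) := by rw [hi, inv_mul_cancel_left]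
            have h1 := hcommA i (this ▸ ((hxv.mul_left hyv).inv_left.mul_left (hyv.mul_left hxv)))
            rw [h1, mul_one] at hi
            exact hi.symm
          refine ⟨mul_mem hx hy, hxv.mul_left hyv, ?_, ?_⟩
          · rw [mul_inv_rev, ← hxz, ← hyz]
            calc z * (x * y) * z⁻¹ = z * (y * x) * z⁻¹ := by rw [hxy]
              _ = _ := by group
          · rw [(show Commute x y from hxy).mul_pow, hx3, hy3, one_mul]
        inv_mem' := by
          rintro x ⟨hx, hxv, hxz, hx3⟩
          exact ⟨inv_mem hx, hxv.inv_left, by rw [show z * x⁻¹ * z⁻¹ = (z * x * z⁻¹)⁻¹ by group, hxz], by rw [inv_pow, hx3, inv_one]⟩ }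
    have hX : Nat.card X ≤ 9 := by
      have hin : ∀ x ∈ X, g⁻¹ * x * g ∈ centralizer ({z} : Set G) := fun x hx => by
        rw [Subgroup.mem_centralizer_singleton_iff]
        have := hx.2.1.eq
        rw [← hg] at this
        calc g⁻¹ * x * g * z = g⁻¹ * (x * (g * z * g⁻¹)) * g := by group
          _ = z * (g⁻¹ * x * g) := by rw [this]; group
      let θ : X →* centralizer ({z} : Set G) :=
        { toFun := fun x => ⟨g⁻¹ * x * g, hin x x.2⟩
          map_one' := Subtype.ext (by simp)
          map_mul' := fun x y => Subtype.ext (by simp [mul_assoc]) }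
      have hinj : Function.Injective (π.comp θ) := by
        intro x y e
        have e' : θ x = θ y := h.three_unique e
          (by rw [← map_pow, show x ^ 3 = 1 from Subtype.ext x.2.2.2.2, map_one])
          (by rw [← map_pow, show y ^ 3 = 1 from Subtype.ext y.2.2.2.2, map_one])
        have := congrArg Subtype.val e'
        exact Subtype.ext (mul_left_cancel (mul_right_cancel (this : g⁻¹ * (x : G) * g = g⁻¹ * y * g)))
      rw [Nat.card_congr (MonoidHom.ofInjective hinj).toEquiv]
      have hf : g⁻¹ * z * g ∈ centralizer ({z} : Set G) := by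
        rw [Subgroup.mem_centralizer_singleton_iff]
        have := hvz'.eq
        rw [← hg] at this
        calc g⁻¹ * z * g * z = g⁻¹ * (z * (g * z * g⁻¹)) * g := by group
          _ = z * (g⁻¹ * z * g) := by rw [this]; group
      set f : centralizer ({z} : Set G) := ⟨_, hf⟩
      have hff : f * f = 1 := Subtype.ext (by
        show g⁻¹ * z * g * (g⁻¹ * z * g) = 1
        rw [show g⁻¹ * z * g * (g⁻¹ * z * g) = g⁻¹ * (z * z) * g by group, hzz, mul_one, inv_mul_cancel])
      have hf1 : f ≠ 1 := fun e => hz1 (by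
        have e' : g⁻¹ * z * g = 1 := congrArg Subtype.val e
        calc z = g * (g⁻¹ * z * g) * g⁻¹ := by group
          _ = 1 := by rw [e']; group)
      have hfz : f ≠ zC := fun e => hvz (by
        have e' : g⁻¹ * z * g = z := (congrArg Subtype.val e).trans hzC
        calc v = g * z * g⁻¹ := hg.symm
          _ = g * (g⁻¹ * z * g) * g⁻¹ := by rw [e']
          _ = z := by group)
      have hf2 : π f * π f = 1 := by rw [← map_mul, hff, map_one]
      have h8 : 8 ≤ (π f).support.card := by
        refine Nat.le_of_dvd (Nat.pos_of_ne_zero fun e => ?_) (h.four_dvd f hf2 hff)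
        rcases (h.ker f).mp (Perm.support_eq_empty_iff.mp (Finset.card_eq_zero.mp e)) with e' | e'
        exacts [hf1 e', hfz e']
      refine inverted_three_le hn10 ?_ ?_ hf2 h8 ?_
      · rintro _ ⟨x, rfl⟩
        rw [← map_pow, show x ^ 3 = 1 from Subtype.ext x.2.2.2.2, map_one]
      · rintro _ ⟨x, rfl⟩ _ ⟨y, rfl⟩
        rw [← map_mul, ← map_mul]
        congr 1
        refine Subtype.ext ?_
        show (x : G) * y = y * x
        obtain ⟨hxy1, -, hxy3, -⟩ := (x * y).2
        rw [Subgroup.coe_mul, mul_inv_rev, ← x.2.2.2.1, ← y.2.2.2.1] at hxy3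
        have h' : z * ((x : G) * y) * z⁻¹ = z * ((y : G) * x) * z⁻¹ := hxy3.trans (by group)
        exact mul_left_cancel (mul_right_cancel h')
      · rintro _ ⟨x, rfl⟩
        rw [MonoidHom.comp_apply, ← map_mul, ← map_inv, ← map_mul]
        congr 1
        refine Subtype.ext ?_
        show g⁻¹ * z * g * (g⁻¹ * x * g) = (g⁻¹ * x * g)⁻¹ * (g⁻¹ * z * g)
        calc _ = g⁻¹ * (z * x * z⁻¹) * z * g := by group
          _ = _ := by rw [x.2.2.2.1]; group
    have hex : ∀ q : {q : Q | q ^ 3 = 1 ∧ cQ v (hmemN v (Or.inr hvA)) q = q}, ∃ x : W, mk x = q.1 ∧ (x : G) ∈ X := by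
      rintro ⟨q, hq3, hqv⟩
      obtain ⟨x, rfl⟩ := QuotientGroup.mk'_surjective N q
      rw [hcQ] at hqv
      obtain ⟨i, hi⟩ := hmk _ _ hqv.symm
      change v * x * v⁻¹ = (x : G) * A ^ i at hi
      -- shift to the fixed element of the coset
      let y : W := x * ⟨A ^ (2 * i), W.zpow_mem hAW _⟩
      have hy : mk y = mk x := by
        refine ((QuotientGroup.eq (s := N)).mpr ?_).symm
        rw [Subgroup.mem_subgroupOf]
        show (x : G)⁻¹ * ((x : G) * A ^ (2 * i)) ∈ zpowers A
        rw [inv_mul_cancel_left]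
        exact zpow_mem (mem_zpowers A) _
      have hyv : Commute (y : G) v := by
        refine (mul_inv_eq_iff_eq_mul.mp ?_).symm
        show v * ((x : G) * A ^ (2 * i)) * v⁻¹ = (x : G) * A ^ (2 * i)
        calc _ = v * x * v⁻¹ * (v * A ^ (2 * i) * v⁻¹) := by group
          _ = (x : G) * (A ^ i * A ^ (-(2 * i))) := by rw [hi, hvAi, mul_assoc]
          _ = _ := by
            rw [← zpow_add]
            congr 1
            rw [show i + -(2 * i) = 2 * i + (3 : ℕ) * (-i) by push_cast; ring, zpow_add, zpow_mul A ((3 : ℕ) : ℤ), zpow_natCast,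
              hA3, one_zpow, mul_one]
      have hy3 : (y : G) ^ 3 = 1 := by
        have hq : mk (y ^ 3) = mk 1 := by rw [map_pow, hy, hq3, map_one]
        obtain ⟨j, hj⟩ := hmk _ _ hq.symm
        change (y : G) ^ 3 = 1 * A ^ j at hj
        rw [one_mul] at hj
        rw [hj]
        exact hcommA j (hj ▸ hyv.pow_left 3)
      refine ⟨y, hy, y.2, hyv, ?_, hy3⟩
      have hz' : mk ⟨z * y * z⁻¹, hNW z hzN _ y.2⟩ = mk y⁻¹ := by
        rw [← hcQ z hzN y, hinvz, map_inv]
      obtain ⟨j, hj⟩ := hmk _ _ hz'.symm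
      change z * y * z⁻¹ = (y : G)⁻¹ * A ^ j at hj
      have e : A ^ j = (y : G) * (z * y * z⁻¹) := by rw [hj, mul_inv_cancel_left]
      have h1 := hcommA j (e ▸ hyv.mul_left ((hvz'.mul_left hyv).mul_left hvz'.inv_left))
      rw [hj, h1, mul_one]
    choose f hfq hfX using hex
    refine le_trans ?_ hX
    rw [← Nat.card_coe_set_eq]
    exact Nat.card_le_card_of_injective (fun q => (⟨(f q : G), hfX q⟩ : X)) fun p q e =>
      Subtype.ext (by
        have h' : f p = f q := Subtype.ext (congrArg (fun x : X => (x : G)) e)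
        rw [← hfq p, ← hfq q, h'])
  have hQ3 : Q3.ncard ≤ 81 := by
    have huN := hmemN u (Or.inr huA)
    have huzA : u * z * A * (u * z)⁻¹ = A⁻¹ := by
      rw [show u * z * A * (u * z)⁻¹ = u * (z * A * z⁻¹) * u⁻¹ by group, hzA.eq, mul_inv_cancel_right, huA]
    have huzN := hmemN (u * z) (Or.inr huzA)
    have huz2 : u * z * (u * z) = 1 := by rw [huc.symm.mul_mul_mul_comm, hu2, hzz, mul_one]
    have huz1 : u * z ≠ 1 := fun e => huz (by
      rw [← inv_eq_of_mul_eq_one_right hzz]; exact eq_inv_of_mul_eq_one_left e)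
    have huzz : u * z ≠ z := fun e => hu1 (mul_eq_right.mp e)
    let S1 : Set Q := {q | q ^ 3 = 1 ∧ cQ u huN q = q}
    let S2 : Set Q := {q | q ^ 3 = 1 ∧ cQ (u * z) huzN q = q}
    have h81 : (S1 ×ˢ S2).ncard ≤ 81 := by
      rw [Set.ncard_prod]
      exact Nat.mul_le_mul (hnine u hu2 hu1 huz huA huc) (hnine _ huz2 huz1 huzz huzA (huc.mul_left (Commute.refl z)))
    refine le_trans ?_ h81
    have hcu : ∀ q, cQ u huN (cQ u huN q) = q := fun q => by
      obtain ⟨x, rfl⟩ := QuotientGroup.mk'_surjective N q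
      rw [hcQ, hcQ]
      exact congrArg mk (Subtype.ext (by
        show u * (u * x * u⁻¹) * u⁻¹ = x
        rw [show u * (u * (x : G) * u⁻¹) * u⁻¹ = u * u * x * (u * u)⁻¹ by group, hu2]; group))
    refine Set.ncard_le_ncard_of_injOn (fun q => (q * cQ u huN q, q * (cQ u huN q)⁻¹)) (fun q hq => ?_)
      (fun p hp q hq e => ?_) (Set.toFinite _)
    · change q ^ 3 = 1 at hq
      refine ⟨⟨?_, ?_⟩, ?_, ?_⟩
      · rw [(show Commute q (cQ u huN q) from hQc _ _).mul_pow, ← map_pow, hq, map_one, one_mul]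
      · rw [map_mul, hcu, hQc]
      · rw [(show Commute q (cQ u huN q)⁻¹ from hQc _ _).mul_pow, inv_pow, ← map_pow, hq, map_one, inv_one, one_mul]
      · rw [hcomp u z huN hzN huzN, hinvz, map_inv, map_mul, map_inv, hcu, mul_inv_rev, inv_inv]
    · change p ^ 3 = 1 at hp
      change q ^ 3 = 1 at hq
      simp only [Prod.mk.injEq] at e
      have h2 : p * p = q * q := by
        have e' : p * cQ u huN p * (p * (cQ u huN p)⁻¹) = q * cQ u huN q * (q * (cQ u huN q)⁻¹) := by rw [e.1, e.2]
        rwa [(show Commute (cQ u huN p) p from hQc _ _).mul_mul_mul_comm, mul_inv_cancel, mul_one,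
          (show Commute (cQ u huN q) q from hQc _ _).mul_mul_mul_comm, mul_inv_cancel, mul_one] at e'
      rw [pow_three'] at hp hq
      rw [eq_inv_of_mul_eq_one_left hp, eq_inv_of_mul_eq_one_left hq] at h2
      exact inv_injective h2
  -- a conjugate of the second cycle generating the involution with it
  obtain ⟨c0, hc0⟩ : ∃ c, π a' c ≠ c := by
    by_contra! he
    exact hac'.isCycle.ne_one (Equiv.ext he)
  obtain ⟨hs', e3', m1, m2⟩ := three_support hac' hc0
  obtain ⟨d, hd, hd'⟩ : ∃ d, π a d = d ∧ π a' d = d := by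
    by_contra! hno
    have hsub : (Finset.univ : Finset (Fin n)) ⊆ (π a).support ∪ (π a').support := fun w _ => by
      simp only [Finset.mem_union, Perm.mem_support]
      by_cases hw : π a w = w
      exacts [Or.inr (hno w hw), Or.inl hw]
    have h1 := Finset.card_le_card hsub
    have h2 := Finset.card_union_le (π a).support (π a').support
    rw [hac.card_support, hac'.card_support] at h2
    rw [Finset.card_univ, Fintype.card_fin] at h1
    omega
  obtain ⟨x, y, hxy, hx, hy⟩ : ∃ x y, x ≠ y ∧ (π a x = x ∧ π a' x = x ∧ x ≠ d) ∧ π a y = y ∧ π a' y = y ∧ y ≠ d := by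
    set S := Finset.univ \ ((π a).support ∪ (π a').support ∪ {d})
    have hS : 1 < S.card := by
      have h1 := Finset.card_union_le ((π a).support ∪ (π a').support) {d}
      have h2 := Finset.card_union_le (π a).support (π a').support
      rw [hac.card_support, hac'.card_support] at h2
      rw [Finset.card_singleton] at h1
      rw [Finset.card_sdiff_of_subset (Finset.subset_univ _), Finset.card_univ, Fintype.card_fin]
      omega
    obtain ⟨x, hx, y, hy, hxy⟩ := Finset.one_lt_card.mp hS
    simp only [S, Finset.mem_sdiff, Finset.mem_univ, true_and, Finset.mem_union, Perm.mem_support,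
      Finset.mem_singleton, not_or, not_not] at hx hy
    exact ⟨x, y, hxy, ⟨hx.1.1, hx.1.2, hx.2⟩, hy.1.1, hy.1.2, hy.2⟩
  set c1 := π a' c0
  set c2 := π a' c1
  have hne : ∀ i w, π a' w = w → π a' i ≠ i → w ≠ i := fun i w h1 h2 e => h2 (e ▸ h1)
  have hm0 : π a' c0 ≠ c0 := hc0
  have hm1 : π a' c1 ≠ c1 := m2
  have hm2 : π a' c2 ≠ c2 := fun e => m2 ((π a').injective e)
  obtain ⟨g, hg⟩ := h.cover.onto (swap c2 d * swap x y) (by
    rw [map_mul, Perm.sign_swap (hne c2 d hd' hm2).symm, Perm.sign_swap hxy]; rfl)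
  have hga : Commute g a := (h.cover.commute_disjoint a (π g) (h.cover.even g) (fun w hw => by
    rw [hg, Perm.mul_apply] at hw
    by_contra hwa
    refine hw ?_
    have n3 : w ≠ x := fun e => hwa (e ▸ hx.1)
    have n4 : w ≠ y := fun e => hwa (e ▸ hy.1)
    have n5 : w ≠ d := fun e => hwa (e ▸ hd)
    have n6 : w ≠ c2 := fun e => hwa (e ▸ hdis c2 hm2)
    rw [swap_apply_of_ne_of_ne n3 n4, swap_apply_of_ne_of_ne n6 n5]) g rfl).symm
  set a'' := g * a' * g⁻¹ with ha''
  let emb : Fin 4 → Fin n := ![c0, c1, c2, d]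
  have n01 : c0 ≠ c1 := hc0.symm
  have n02 : c0 ≠ c2 := m1.symm
  have n12 : c1 ≠ c2 := m2.symm
  have hemb : Function.Injective emb := by
    intro i j e
    have n03 : c0 ≠ d := (hne c0 d hd' hm0).symm
    have n13 : c1 ≠ d := (hne c1 d hd' hm1).symm
    have n23 : c2 ≠ d := (hne c2 d hd' hm2).symm
    fin_cases i <;> fin_cases j <;> simp [emb] at e ⊢ <;> first | exact absurd e (by assumption) | exact absurd e.symm (by assumption)
  let φ4 := Perm.viaEmbeddingHom (⟨emb, hemb⟩ : Fin 4 ↪ Fin n)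
  have hφ4 : ∀ σ i, φ4 σ (emb i) = emb (σ i) := fun σ i => Perm.viaEmbedding_apply σ ⟨emb, hemb⟩ i
  have hφ4' : ∀ σ w, w ∉ Set.range emb → φ4 σ w = w := fun σ w hw =>
    Perm.viaEmbedding_apply_of_notMem σ ⟨emb, hemb⟩ w hw
  have hA' : π a' = φ4 (swap 0 1 * swap 1 2) := by
    ext w : 1
    by_cases hw : w ∈ Set.range emb
    · obtain ⟨i, rfl⟩ := hw
      rw [hφ4]
      fin_cases i <;> simp [emb, swap_apply_of_ne_of_ne, hd', e3', c1, c2]
    · rw [hφ4' _ _ hw]
      by_contra hwm
      refine hw ?_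
      have hm := Perm.mem_support.mpr hwm
      rw [hs'] at hm
      simp only [Finset.mem_insert, Finset.mem_singleton] at hm
      rcases hm with rfl | rfl | rfl
      exacts [⟨0, rfl⟩, ⟨1, rfl⟩, ⟨2, rfl⟩]
  have hA'' : π a'' = φ4 (swap 0 1 * swap 1 3) := by
    rw [ha'', map_mul, map_mul, map_inv, hg, mul_inv_eq_iff_eq_mul]
    have n03 : c0 ≠ d := (hne c0 d hd' hm0).symm
    have n13 : c1 ≠ d := (hne c1 d hd' hm1).symm
    have nx : ∀ i, π a' i ≠ i → x ≠ i ∧ y ≠ i := fun i hi => ⟨hne i x hx.2.1 hi, hne i y hy.2.1 hi⟩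
    ext w : 1
    simp only [Perm.mul_apply]
    by_cases w0 : w = c0
    · rw [w0, swap_apply_of_ne_of_ne (nx _ hm0).1.symm (nx _ hm0).2.symm, swap_apply_of_ne_of_ne n02 n03,
        show c0 = emb 0 from rfl, hφ4]
      show swap c2 d (swap x y c1) = _
      rw [swap_apply_of_ne_of_ne (nx _ hm1).1.symm (nx _ hm1).2.symm, swap_apply_of_ne_of_ne n12 n13]
      rfl
    by_cases w1 : w = c1
    · rw [w1, swap_apply_of_ne_of_ne (nx _ hm1).1.symm (nx _ hm1).2.symm, swap_apply_of_ne_of_ne n12 n13,
        show π a' c1 = c2 from rfl, swap_apply_of_ne_of_ne (nx _ hm2).1.symm (nx _ hm2).2.symm, swap_apply_left,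
        show c1 = emb 1 from rfl, hφ4]
      rfl
    by_cases w2 : w = c2
    · rw [w2, show π a' c2 = c0 from e3', swap_apply_of_ne_of_ne (nx _ hm0).1.symm (nx _ hm0).2.symm,
        swap_apply_of_ne_of_ne n02 n03, swap_apply_of_ne_of_ne (nx _ hm2).1.symm (nx _ hm2).2.symm, swap_apply_left,
        show d = emb 3 from rfl, hφ4]
      rfl
    have hwf : π a' w = w := by
      by_contra hwm
      have hm := Perm.mem_support.mpr hwm
      rw [hs'] at hm
      simp only [Finset.mem_insert, Finset.mem_singleton] at hm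
      tauto
    rw [hwf]
    by_cases w3 : w = d
    · rw [w3, swap_apply_of_ne_of_ne hx.2.2.symm hy.2.2.symm, swap_apply_right, show c2 = emb 2 from rfl, hφ4]
      rfl
    have hout : swap c2 d (swap x y w) ∉ Set.range emb := by
      have hv : swap x y w ≠ c2 ∧ swap x y w ≠ d ∧ swap x y w ≠ c0 ∧ swap x y w ≠ c1 := by
        rw [swap_apply_def]
        split_ifs
        · exact ⟨(nx _ hm2).2, hy.2.2, (nx _ hm0).2, (nx _ hm1).2⟩
        · exact ⟨(nx _ hm2).1, hx.2.2, (nx _ hm0).1, (nx _ hm1).1⟩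
        · exact ⟨w2, w3, w0, w1⟩
      rw [swap_apply_of_ne_of_ne hv.1 hv.2.1]
      rintro ⟨i, e⟩
      fin_cases i <;> simp [emb] at e
      exacts [hv.2.2.1 e.symm, hv.2.2.2 e.symm, hv.1 e.symm, hv.2.1 e.symm]
    rw [hφ4' _ _ hout]
  have hcz : a' * a'' * a'⁻¹ * a''⁻¹ * (a' * a'' * a'⁻¹ * a''⁻¹) = zC := by
    refine h.dbl_sq (a := emb 0) (b := emb 1) (c := emb 2) (d := emb 3) ?_ ?_
    · have := (show [(0 : Fin 4), 1, 2, 3].Nodup by decide).map hemb
      simpa using this
    · rw [map_mul, map_mul, map_mul, map_inv, map_inv, hA', hA'', ← map_inv, ← map_inv, ← map_mul, ← map_mul,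
        ← map_mul, comm_four, dbl]
      have hsw : ∀ i j, φ4 (swap i j) = swap (emb i) (emb j) := fun i j => by
        ext w : 1
        by_cases hw : w ∈ Set.range emb
        · obtain ⟨k, rfl⟩ := hw; rw [hφ4, hemb.map_swap]
        · rw [hφ4' _ _ hw, swap_apply_of_ne_of_ne (fun e => hw ⟨i, e.symm⟩) (fun e => hw ⟨j, e.symm⟩)]
      rw [map_mul, hsw, hsw]
  -- two copies inject
  set F := invSet z A (a' : G)
  have hFW : ∀ w ∈ F, w ∈ W := fun w hw => hstep w hw.1 hw.2.1 hw.2.2.1
  have hgA : Commute (g : G) A := congrArg Subtype.val hga.eq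
  have hgN : (g : G) ∈ N0 := hmemN _ (Or.inl hgA)
  have hga' : Commute a a' := by
    refine h.odd_commute (m := 3) ⟨1, rfl⟩ (by rw [ha3, map_one]) (Perm.Disjoint.commute fun w => ?_)
    by_cases hw : π a' w = w
    exacts [Or.inr hw, Or.inl (hdis w hw)]
  have hA'A : Commute (a' : G) A := congrArg Subtype.val hga'.symm.eq
  have hA''A : Commute (a'' : G) A := by
    rw [ha'', Subgroup.coe_mul, Subgroup.coe_mul, Subgroup.coe_inv]
    exact (hgA.mul_left hA'A).mul_left hgA.inv_left
  have h81 : F.ncard * F.ncard ≤ 81 := by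
    rw [← Set.ncard_prod]
    refine le_trans ?_ hQ3
    refine Set.ncard_le_ncard_of_injOn
      (fun p => if hp : p.1 ∈ W ∧ p.2 ∈ W then mk ⟨p.1, hp.1⟩ * cQ g hgN (mk ⟨p.2, hp.2⟩) else 1)
      (fun p hp => ?_) (fun p hp p' hp' e => ?_) (Set.toFinite _)
    · simp only [dif_pos (show p.1 ∈ W ∧ p.2 ∈ W from ⟨hFW _ hp.1, hFW _ hp.2⟩)]
      show (_ * _) ^ 3 = 1
      rw [(show Commute _ _ from hQc _ _).mul_pow, ← map_pow (cQ _ hgN), ← map_pow, ← map_pow,
        show (⟨p.1, hFW _ hp.1⟩ : W) ^ 3 = 1 from Subtype.ext hp.1.2.1,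
        show (⟨p.2, hFW _ hp.2⟩ : W) ^ 3 = 1 from Subtype.ext hp.2.2.1, map_one, map_one, one_mul]
    · obtain ⟨w, v⟩ := p
      obtain ⟨w', v'⟩ := p'
      obtain ⟨hw, hv⟩ := hp
      obtain ⟨hw', hv'⟩ := hp'
      simp only [dif_pos (show w ∈ W ∧ v ∈ W from ⟨hFW _ hw, hFW _ hv⟩),
        dif_pos (show w' ∈ W ∧ v' ∈ W from ⟨hFW _ hw', hFW _ hv'⟩)] at e
      set qw := mk ⟨w, hFW _ hw⟩
      set qw' := mk ⟨w', hFW _ hw'⟩
      set qv := mk ⟨v, hFW _ hv⟩
      set qv' := mk ⟨v', hFW _ hv'⟩
      set q := qw'⁻¹ * qw with hq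
      have hq' : q = cQ g hgN (qv' * qv⁻¹) := by
        rw [hq, map_mul, map_inv, eq_mul_inv_iff_mul_eq, mul_assoc, e, inv_mul_cancel_left]
      have hfix' : ∀ t ∈ F, ∀ (ht : t ∈ W) (hh : (a' : G) ∈ N0), cQ (a' : G) hh (mk ⟨t, ht⟩) = mk ⟨t, ht⟩ :=
        fun t hF ht hh => (hcQ _ _ _).trans (congrArg mk (Subtype.ext (by
          show (a' : G) * t * (a' : G)⁻¹ = t
          rw [← hF.2.2.2.eq, mul_inv_cancel_right])))
      have hN' : (a' : G) ∈ N0 := hmemN _ (Or.inl hA'A)
      have hN'' : (a'' : G) ∈ N0 := hmemN _ (Or.inl hA''A)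
      have f1 : cQ (a' : G) hN' q = q := by
        rw [hq, map_mul, map_inv, hfix' w' hw' _ hN', hfix' w hw _ hN']
      have f2 : cQ (a'' : G) hN'' q = q := by
        have hga2 : (a'' : G) * g = g * a' := by
          rw [ha'', Subgroup.coe_mul, Subgroup.coe_mul, Subgroup.coe_inv, inv_mul_cancel_right]
        have hm1 : (g : G) * a' ∈ N0 := mul_mem hgN hN'
        rw [hq', ← hcomp _ _ hN'' hgN (hga2 ▸ hm1)]
        have hcong : ∀ s t (hs : s ∈ N0) (ht : t ∈ N0), s = t → ∀ r, cQ s hs r = cQ t ht r := by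
          rintro s t hs ht rfl r; rfl
        rw [hcong _ _ _ hm1 hga2]
        rw [hcomp _ _ hgN hN' hm1, map_mul, map_inv, hfix' v' hv' _ hN', hfix' v hv _ hN']
      have hfixer : ∀ t : G, t ∈ Subgroup.closure ({(a' : G), (a'' : G)} : Set G) → ∃ ht : t ∈ N0, cQ t ht q = q := by
        intro t ht
        induction ht using Subgroup.closure_induction with
        | mem t ht =>
          rcases ht with rfl | rfl
          exacts [⟨hN', f1⟩, ⟨hN'', f2⟩]
        | one =>
          refine ⟨one_mem _, ?_⟩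
          obtain ⟨x, hx⟩ := QuotientGroup.mk'_surjective N q
          rw [← hx, hcQ]
          exact congrArg mk (Subtype.ext (by simp))
        | mul s t _ _ hs ht =>
          obtain ⟨h1, e1⟩ := hs
          obtain ⟨h2, e2⟩ := ht
          exact ⟨mul_mem h1 h2, by rw [hcomp s t h1 h2, e2, e1]⟩
        | inv s _ hs =>
          obtain ⟨h1, e1⟩ := hs
          refine ⟨inv_mem h1, ?_⟩
          conv_lhs => rw [← e1]
          rw [← hcomp s⁻¹ s (inv_mem h1) h1 (mul_mem (inv_mem h1) h1)]
          obtain ⟨x, hx⟩ := QuotientGroup.mk'_surjective N q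
          rw [← hx, hcQ]
          exact congrArg mk (Subtype.ext (by simp))
      have hzz' : (zC : G) = (a' : G) * a'' * (a' : G)⁻¹ * (a'' : G)⁻¹ *
          ((a' : G) * a'' * (a' : G)⁻¹ * (a'' : G)⁻¹) := by rw [← hcz]; rfl
      obtain ⟨hzN', ez⟩ := hfixer z (by
        refine Eq.subst (motive := fun x => x ∈ Subgroup.closure ({(a' : G), (a'' : G)} : Set G))
          (hzz'.symm.trans hzC) ?_
        have m1' : (a' : G) ∈ Subgroup.closure ({(a' : G), (a'' : G)} : Set G) := subset_closure (Set.mem_insert _ _)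
        have m2' : (a'' : G) ∈ Subgroup.closure ({(a' : G), (a'' : G)} : Set G) :=
          subset_closure (Set.mem_insert_of_mem _ rfl)
        have mc := mul_mem (mul_mem (mul_mem m1' m2') (inv_mem m1')) (inv_mem m2')
        exact mul_mem mc mc)
      have hq1 := hzfix q ez
      have hrep : ∀ s t, s ∈ F → t ∈ F → ∀ (hs : s ∈ W) (ht : t ∈ W), mk ⟨s, hs⟩ = mk ⟨t, ht⟩ → s = t := by
        intro s t hsF htF hs ht e
        obtain ⟨i, hi⟩ := hmk _ _ e
        change t = s * A ^ i at hi
        have h1 := htF.1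
        rw [hi, show z * (s * A ^ i) * z⁻¹ = z * s * z⁻¹ * (z * A ^ i * z⁻¹) by group, hsF.1,
          (hzA.zpow_right i).eq, mul_inv_cancel_right, mul_inv_rev, ← (hsF.2.2.1.zpow_right i).inv_inv.eq] at h1
        have h1' := mul_left_cancel h1
        rw [hi, hhalf i (by nth_rw 1 [h1']; exact inv_mul_cancel _), mul_one]
      have e1 : qw' = qw := inv_mul_eq_one.mp hq1
      rw [e1, mul_right_inj] at e
      have e2 : qv' = qv := by
        rw [hq'] at hq1
        have h1 : cQ (g : G)⁻¹ (inv_mem hgN) (cQ g hgN (qv' * qv⁻¹)) = 1 := by rw [hq1, map_one]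
        rw [← hcomp _ _ _ _ (mul_mem (inv_mem hgN) hgN)] at h1
        obtain ⟨x, hx⟩ := QuotientGroup.mk'_surjective N (qv' * qv⁻¹)
        rw [← hx, hcQ] at h1
        have : mk x = 1 := by
          rw [← h1]
          exact congrArg mk (Subtype.ext (by simp))
        rw [hx] at this
        exact mul_inv_eq_one.mp this
      rw [hrep w' w hw' hw _ _ e1, hrep v' v hv' hv _ _ e2]
  by_contra hgt
  have := Nat.mul_le_mul (Nat.not_le.mp hgt) (Nat.not_le.mp hgt)
  omega

end CfsgAltCentInv
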