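import Cfsg.Agent.Lib.AltCentInv.Small.Data
import Cfsg.Agent.Lib.AltCentInv.Small.Embed
import Cfsg.Agent.Lib.AltCentInv.Small.Local

/-!
No fused involution has centraliser the double cover of the alternating group of degree nine or ten.
-/

set_option autoImplicit false
set_option linter.unusedSectionVars false
set_option maxRecDepth 100000

namespace CfsgAltCentInv

open Equiv Subgroup
open CfsgMcLChar CfsgLib.McLInvol
open CfsgMcLChar.Enum (evW winv)

variable {n : ℕ} {E : Type*} [Group E] [Finite E] {π : E →* Perm (Fin n)} {zE : E}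

theorem cycleType_prime {σ : Perm (Fin n)} {p : ℕ} (hp : p.Prime) (h : σ ^ p = 1) :
    σ.cycleType = Multiset.replicate (Multiset.card σ.cycleType) p ∧
      σ.support.card = Multiset.card σ.cycleType * p := by
  have hall : ∀ c ∈ σ.cycleType, c = p := fun c hc => by
    have h1 := (Perm.dvd_of_mem_cycleType hc).trans (orderOf_dvd_of_pow_eq_one h)
    have := Perm.two_le_of_mem_cycleType hc
    rcases (Nat.dvd_prime hp).mp h1 with e | e <;> omega
  have hrep := Multiset.eq_replicate_card.mpr hall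
  refine ⟨hrep, ?_⟩
  have hsum := Perm.sum_cycleType σ
  rw [hrep, Multiset.sum_replicate, smul_eq_mul] at hsum
  exact hsum.symm

/-- An element of order 3 on eight points commuting with one of order 5 is a three-cycle. -/
theorem three_of_five {x y : Perm (Fin n)} (hx : x ^ 3 = 1) (hx1 : x ≠ 1) (hy : y ^ 5 = 1) (hy1 : y ≠ 1)
    (hxy : Commute x y) (hxl : ∀ i : Fin n, 8 ≤ (i : ℕ) → x i = i) (hyl : ∀ i : Fin n, 8 ≤ (i : ℕ) → y i = i) :
    x.IsThreeCycle := by
  classical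
  obtain ⟨hxt, hxs⟩ := cycleType_prime Nat.prime_three hx
  obtain ⟨hyt, hys⟩ := cycleType_prime Nat.prime_five hy
  have hlow : ∀ f : Perm (Fin n), (∀ i : Fin n, 8 ≤ (i : ℕ) → f i = i) →
      f.support ⊆ Finset.univ.filter fun i : Fin n => (i : ℕ) < 8 := fun f hf i hi => by
    simp only [Finset.mem_filter, Finset.mem_univ, true_and]
    by_contra hh
    exact Perm.mem_support.mp hi (hf i (Nat.not_lt.mp hh))
  have hcard : (Finset.univ.filter fun i : Fin n => (i : ℕ) < 8).card ≤ 8 := by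
    refine le_trans (Finset.card_le_card_of_injOn (fun i : Fin n => (i : ℕ)) (t := Finset.range 8) (fun i hi => ?_)
      (fun i _ j _ e => Fin.ext e)) (by simp)
    simp only [Finset.coe_filter, Finset.mem_univ, true_and, Set.mem_setOf_eq] at hi
    simpa using hi
  have hx8 := (Finset.card_le_card (hlow x hxl)).trans hcard
  have hy8 := (Finset.card_le_card (hlow y hyl)).trans hcard
  have hx0 : Multiset.card x.cycleType ≠ 0 := fun e => hx1 (Perm.card_cycleType_eq_zero.mp e)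
  have hy0 : Multiset.card y.cycleType ≠ 0 := fun e => hy1 (Perm.card_cycleType_eq_zero.mp e)
  rw [← card_support_eq_three_iff]
  by_contra hne
  have hx6 : x.support.card = 6 := by omega
  have hy5 : y.support.card = 5 := by omega
  have hcy : y.IsCycle := Perm.card_cycleType_eq_one.mp (by omega)
  obtain ⟨u, hu⟩ : ∃ u, u ∈ x.support ∩ y.support := by
    refine Finset.card_pos.mp ?_
    have h1 := Finset.card_union_add_card_inter x.support y.support
    have h2 := (Finset.card_le_card (Finset.union_subset (hlow x hxl) (hlow y hyl))).trans hcard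
    omega
  rw [Finset.mem_inter, Perm.mem_support, Perm.mem_support] at hu
  have hxu : y (x u) ≠ x u := fun e => hu.2 (x.injective (by
    rw [← Perm.mul_apply, hxy.eq, Perm.mul_apply, e]))
  obtain ⟨i, hi⟩ := hcy.exists_pow_eq hu.2 hxu
  have hxy' : ∀ k, ∀ w, x ((y ^ k) w) = (y ^ k) (x w) := fun k w => Perm.congr_fun (hxy.pow_right k).eq w
  have h3 : (y ^ (i + i + i)) u = u := by
    have e : x (x (x u)) = u := by
      have := Perm.congr_fun hx u
      simpa [pow_succ', Perm.mul_apply] using this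
    rw [pow_add, pow_add, Perm.mul_apply, Perm.mul_apply, hi, ← hxy', hi, ← hxy', ← hxy', hi, e]
  have h31 : y ^ (i + i + i) = 1 := (hcy.pow_eq_one_iff' hu.2).mpr h3
  have ho : orderOf y = 5 := orderOf_eq_prime (hp := ⟨Nat.prime_five⟩) hy hy1
  have h5 : 5 ∣ i + i + i := ho ▸ orderOf_dvd_of_pow_eq_one h31
  obtain ⟨j, rfl⟩ : 5 ∣ i := by omega
  rw [pow_mul, hy, one_pow] at hi
  exact hu.1 hi.symm

/-- The exponents of a transvection inverted by a reflection. -/
theorem exps : ∀ p q r s : Fin 3,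
    let f : Fin 3 × Fin 3 → Fin 3 × Fin 3 := fun v => (p * v.1 + r * v.2, q * v.1 + s * v.2)
    f (f (f (1, 0))) = (1, 0) → f (f (f (0, 1))) = (0, 1) →
    f (2 * (f (1, 0)).1, (f (1, 0)).2) = (2, 0) → f (2 * (f (0, 1)).1, (f (0, 1)).2) = (0, 1) →
    (p = 1 ∧ q = 0) ∨ (r = 0 ∧ s = 1) := by decide +kernel

variable {G : Type*} [Group G] [Finite G]

/-- Transferring a relation of the model. -/
theorem transfer {φ : McLP →* G} {u v : List ℕ} (e : eqW u v = true) : φ (evW gM u) = φ (evW gM v) :=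
  congrArg φ (eqW_iff.mp e)

theorem transfer_ne {φ : McLP →* G} (hφ : Function.Injective φ) {u v : List ℕ} (e : eqW u v = false) :
    φ (evW gM u) ≠ φ (evW gM v) := fun h => by
  rw [eqW_iff.mpr (hφ h)] at e
  exact Bool.false_ne_true e.symm

variable {z : G}

theorem small_false {π : centralizer ({z} : Set G) →* Perm (Fin n)} {zC : centralizer ({z} : Set G)}
    (hzC : (zC : G) = z) (h : Cov π zC) (hn9 : 9 ≤ n) (hn10 : n ≤ 10)
    (hfused : ∃ g : G, g * z * g⁻¹ ∈ centralizer ({z} : Set G) ∧ g * z * g⁻¹ ≠ z) : False := by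
  classical
  obtain ⟨ψ, hrange, S⟩ := exists_setting hzC h hn9 hn10 hfused
  obtain ⟨φ, hφ, hφψ⟩ := exists_embedding S
  have hψinj : Function.Injective ψ := fun x y e => S.inj (congrArg Subtype.val e)
  have htau : ψ tauC = zC := Subtype.ext (by rw [hzC]; exact S.tau)
  have hz1 : z ≠ 1 := S.t_ne
  obtain ⟨⟨hcw, a3, a3', q5, q5', tt, t_1, t_z, a_1, a_1', q_1, q_1', aa, aa', caq, caq', caa, tat⟩,
    ⟨st, sz, szt, csaa, s20, c1a, c1a', c2a, c2a', c12, zm1, zm2, tm1, tm2, m13, m23, m1_1, m2_1, m21, m21'⟩⟩ :=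
    Dat.checks
  simp only [Dat.com, Dat.inverts] at caq caq' caa csaa c1a c1a' c2a c2a' c12 zm1 zm2 tm1 tm2
  simp only [List.all_cons, List.all_nil, Bool.and_eq_true, and_true] at hcw
  obtain ⟨cA, cQ, cA', cQ', cT, cZ⟩ := hcw
  have hw : ∀ w, cWord w = true → ((ψ (evC w) : centralizer ({z} : Set G)) : G) = φ (evW gM w) := fun w hw => by
    rw [← evC_val hw]
    exact (hφψ _).symm
  set a := ψ (evC Dat.wA) with ha
  set a' := ψ (evC Dat.wA') with ha'
  set qa := ψ (evC Dat.wQ) with hqa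
  set qa' := ψ (evC Dat.wQ') with hqa'
  set t := ψ (evC Dat.wT) with ht
  have hlow : ∀ w, ∀ i : Fin n, 8 ≤ (i : ℕ) → π (ψ w) i = i := fun w =>
    (hrange ▸ ⟨w, rfl⟩ : ψ w ∈ eightSub π)
  -- the relations in the centraliser
  have hE : ∀ {u v : centralizer ({z} : Set G)}, (u : G) = v → u = v := fun e => Subtype.ext e
  have hA := hw _ cA
  have hA' := hw _ cA'
  have hQ := hw _ cQ
  have hQ' := hw _ cQ'
  have hT := hw _ cT
  have hZ : φ (evW gM Dat.wZ) = z := by rw [Dat.tau_word]; exact (hφψ tauC).trans S.tau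
  have ea3 : a ^ 3 = 1 := hE (by
    rw [Subgroup.coe_pow, hA, pow_three', ← map_mul, ← map_mul, ← Enum.evW_append, ← Enum.evW_append, transfer a3,
      Enum.evW_nil, map_one]; rfl)
  have ea3' : a' ^ 3 = 1 := hE (by
    rw [Subgroup.coe_pow, hA', pow_three', ← map_mul, ← map_mul, ← Enum.evW_append, ← Enum.evW_append, transfer a3',
      Enum.evW_nil, map_one]; rfl)
  have eq5 : qa ^ 5 = 1 := hE (by
    rw [Subgroup.coe_pow, hQ, pow_succ, pow_succ, pow_succ, pow_succ, pow_one, ← map_mul, ← map_mul, ← map_mul,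
      ← map_mul, ← Enum.evW_append, ← Enum.evW_append, ← Enum.evW_append, ← Enum.evW_append, transfer q5,
      Enum.evW_nil, map_one]; rfl)
  have eq5' : qa' ^ 5 = 1 := hE (by
    rw [Subgroup.coe_pow, hQ', pow_succ, pow_succ, pow_succ, pow_succ, pow_one, ← map_mul, ← map_mul, ← map_mul,
      ← map_mul, ← Enum.evW_append, ← Enum.evW_append, ← Enum.evW_append, ← Enum.evW_append, transfer q5',
      Enum.evW_nil, map_one]; rfl)
  have ett : t * t = 1 := hE (by
    rw [Subgroup.coe_mul, hT, ← map_mul, ← Enum.evW_append, transfer tt, Enum.evW_nil, map_one]; rfl)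
  have hne1 : ∀ {w}, cWord w = true → eqW w [] = false → ψ (evC w) ≠ 1 := fun hc e h' =>
    transfer_ne hφ e (by rw [← hw _ hc, h', Enum.evW_nil, map_one]; rfl)
  have etz : t ≠ zC := fun e => transfer_ne hφ t_z (by rw [← hT, ← ht, e, hzC, hZ])
  have hcomE : ∀ {u v}, cWord u = true → cWord v = true → eqW (u ++ v) (v ++ u) = true →
      Commute (ψ (evC u)) (ψ (evC v)) := fun hu hv e => hE (by
    rw [Subgroup.coe_mul, Subgroup.coe_mul, hw _ hu, hw _ hv, ← map_mul, ← map_mul, ← Enum.evW_append,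
      ← Enum.evW_append, transfer e])
  have etat : t * a = a' * t := hE (by
    rw [Subgroup.coe_mul, Subgroup.coe_mul, hT, hA, hA', ← map_mul, ← map_mul, ← Enum.evW_append,
      ← Enum.evW_append, transfer tat])
  -- the permutations
  have hpne : ∀ x : centralizer ({z} : Set G), ∀ m : ℕ, Odd m → x ^ m = 1 → x ≠ 1 → π x ≠ 1 := by
    intro x m hm hx hx1 e
    rcases (h.ker x).mp e with e' | e'
    · exact hx1 e'
    · obtain ⟨j, rfl⟩ := hm
      rw [e', pow_succ, pow_mul, pow_two, h.z_sq, one_pow, one_mul] at hx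
      exact h.ne hx
  have hac : (π a).IsThreeCycle := three_of_five (by rw [← map_pow, ea3, map_one])
    (hpne _ 3 (by decide) ea3 (hne1 cA a_1)) (by rw [← map_pow, eq5, map_one]) (hpne _ 5 (by decide) eq5 (hne1 cQ q_1))
    ((hcomE cA cQ caq).map π) (hlow _) (hlow _)
  have hac' : (π a').IsThreeCycle := three_of_five (by rw [← map_pow, ea3', map_one])
    (hpne _ 3 (by decide) ea3' (hne1 cA' a_1')) (by rw [← map_pow, eq5', map_one])
    (hpne _ 5 (by decide) eq5' (hne1 cQ' q_1')) ((hcomE cA' cQ' caq').map π) (hlow _) (hlow _)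
  have hdis : ∀ u, π a' u ≠ u → π a u = u := by
    intro u hu'
    by_contra hu
    obtain ⟨j, hj⟩ := pow_on_three hac ((hcomE cA cA' caa).map π).symm
    have hju : (π a ^ j) u ≠ u := hj u hu ▸ hu'
    obtain ⟨hs, -, -, -⟩ := three_support hac hu
    obtain ⟨hs', -, -, -⟩ := three_support hac' hu'
    have hpow : π a' = π a ^ j := by
      have hsup : (π a').support ⊆ (π a).support := by
        intro w hw'
        rw [hs'] at hw'
        have hmov : ∀ v, π a v ≠ v → π a (π a' v) ≠ π a' v := fun v hv e => hv ((π a').injective (by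
          rw [← Perm.mul_apply, ← ((hcomE cA cA' caa).map π).eq, Perm.mul_apply, e]))
        rw [Perm.mem_support]
        simp only [Finset.mem_insert, Finset.mem_singleton] at hw'
        rcases hw' with rfl | rfl | rfl
        exacts [hu, hmov u hu, hmov _ (hmov u hu)]
      have heq := Finset.eq_of_subset_of_card_le hsup (by rw [hac.card_support, hac'.card_support])
      ext w : 1
      by_cases hw' : π a w = w
      · have : π a' w = w := Perm.notMem_support.mp (heq ▸ Perm.notMem_support.mpr hw')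
        rw [this, Perm.pow_apply_eq_self_of_apply_eq_self hw']
      · exact hj w hw'
    have hmod : π a ^ j = π a ^ (j % 3) := by
      rw [← hac.orderOf, ← pow_mod_orderOf]
    have := Nat.mod_lt j (show 3 > 0 by omega)
    interval_cases hj3 : j % 3
    · rw [hmod, pow_zero] at hju; exact hju rfl
    · rw [hmod, pow_one] at hpow
      exact transfer_ne hφ aa (by rw [← hA', ← hA, ← ha', ← ha, h.three_unique hpow ea3' ea3])
    · rw [hmod, ← map_pow] at hpow
      have e := h.three_unique hpow ea3' (by rw [← pow_mul, mul_comm, pow_mul, ea3, one_pow])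
      refine transfer_ne hφ aa' ?_
      rw [← hA', Enum.evW_winv, map_inv, ← hA, ← ha', ← ha, e, Subgroup.coe_pow]
      refine eq_inv_of_mul_eq_one_left ?_
      rw [← pow_succ, ← Subgroup.coe_pow, ea3]; rfl
  obtain ⟨ht2, ht8⟩ := h.supp_eight (by omega) ett (hne1 cT t_1) etz
  have htfix := fixed_high (by omega) (hlow _) ht8
  -- the two remaining points
  set Hi := Finset.univ.filter fun i : Fin n => (i : ℕ) < 8 with hHi
  have hHc : Hi.card = 8 := by
    have := Finset.card_filter_add_card_filter_not (s := (Finset.univ : Finset (Fin n))) (fun i : Fin n => (i : ℕ) < 8)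
    simp only [not_lt] at this
    rw [card_high (by omega), Finset.card_univ, Fintype.card_fin] at this
    simp only [hHi]
    omega
  set R := Hi \ ((π a).support ∪ (π a').support) with hR
  have hsubH : ∀ w, (π (ψ w)).support ⊆ Hi := fun w i hi => by
    simp only [hHi, Finset.mem_filter, Finset.mem_univ, true_and]
    by_contra hh
    exact Perm.mem_support.mp hi (hlow w i (Nat.not_lt.mp hh))
  have hRc : R.card = 2 := by
    have hd : Disjoint (π a).support (π a').support := Finset.disjoint_left.mpr fun w hw hw' =>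
      Perm.mem_support.mp hw (hdis w (Perm.mem_support.mp hw'))
    rw [hR, Finset.card_sdiff_of_subset (Finset.union_subset (hsubH _) (hsubH _)), hHc,
      Finset.card_union_of_disjoint hd, hac.card_support, hac'.card_support]
  obtain ⟨r, s, hrs, hRe⟩ := Finset.card_eq_two.mp hRc
  have etat' : t * a' = a * t := by
    calc t * a' = t * (a' * t) * t := by rw [mul_assoc, mul_assoc, ett, mul_one]
      _ = t * t * a * t := by rw [← etat]; group
      _ = a * t := by rw [ett, one_mul]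
  have hRmem : ∀ w, w ∈ R ↔ (w : ℕ) < 8 ∧ π a w = w ∧ π a' w = w := fun w => by
    simp [hR, hHi]
  have htR : ∀ w ∈ R, π t w ∈ R ∧ π t w ≠ w := by
    intro w hw
    obtain ⟨h8, h1, h2⟩ := (hRmem w).mp hw
    have hne : π t w ≠ w := fun e => by have := (htfix w).mp e; omega
    refine ⟨(hRmem _).mpr ⟨?_, ?_, ?_⟩, hne⟩
    · by_contra hh
      exact hne ((π t).injective ((htfix _).mpr (Nat.not_lt.mp hh)))
    · rw [← Perm.mul_apply, ← map_mul, ← etat', map_mul, Perm.mul_apply, h2]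
    · rw [← Perm.mul_apply, ← map_mul, ← etat, map_mul, Perm.mul_apply, h1]
  have hr : r ∈ R := hRe ▸ Finset.mem_insert_self _ _
  have hs : s ∈ R := hRe ▸ Finset.mem_insert_of_mem (Finset.mem_singleton_self _)
  have htr : π t r = s := by
    obtain ⟨hm, hne⟩ := htR r hr
    rw [hRe, Finset.mem_insert, Finset.mem_singleton] at hm
    exact hm.resolve_left hne
  have hts : π t s = r := by rw [← htr, ← Perm.mul_apply, ht2]; rfl
  obtain ⟨r8, ra, ra'⟩ := (hRmem r).mp hr
  obtain ⟨s8, sa, sa'⟩ := (hRmem s).mp hs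
  let p : Fin n := ⟨8, by omega⟩
  have hp8 : 8 ≤ (p : ℕ) := le_rfl
  have hrp : r ≠ p := fun e => by rw [e] at r8; omega
  have hsp : s ≠ p := fun e => by rw [e] at s8; omega
  have htp : π t p = p := hlow _ p hp8
  -- a three-cycle moving the point 8
  set c : Perm (Fin n) := swap r s * swap s p with hc
  have hc1 : Perm.sign c = 1 := by rw [hc, map_mul, Perm.sign_swap hrs, Perm.sign_swap hsp]; rfl
  have hcr : c r = s ∧ c s = p ∧ c p = r := by
    refine ⟨?_, ?_, ?_⟩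
    · rw [hc, Perm.mul_apply, swap_apply_of_ne_of_ne hrs hrp, swap_apply_left]
    · rw [hc, Perm.mul_apply, swap_apply_left, swap_apply_of_ne_of_ne hrp.symm hsp.symm]
    · rw [hc, Perm.mul_apply, swap_apply_right, swap_apply_right]
  obtain ⟨hcr1, hcs, hcp⟩ := hcr
  have hco : ∀ w, w ≠ r → w ≠ s → w ≠ p → c w = w := fun w h1 h2 h3 => by
    rw [hc, Perm.mul_apply, swap_apply_of_ne_of_ne h2 h3, swap_apply_of_ne_of_ne h1 h2]
  have hc3 : c ^ 3 = 1 := by
    ext w : 1
    rw [pow_three]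
    show c (c (c w)) = _
    by_cases h1 : w = r
    · rw [h1, hcr1, hcs, hcp]; rfl
    by_cases h2 : w = s
    · rw [h2, hcs, hcp, hcr1]; rfl
    by_cases h3 : w = p
    · rw [h3, hcp, hcr1, hcs]; rfl
    rw [hco w h1 h2 h3, hco w h1 h2 h3, hco w h1 h2 h3]; rfl
  obtain ⟨b, hb, hb3⟩ : ∃ b, π b = c ∧ b ^ 3 = 1 := by
    obtain ⟨b0, hb0⟩ := h.cover.onto c hc1
    rcases (h.ker (b0 ^ 3)).mp (by rw [map_pow, hb0, hc3]) with e | e
    · exact ⟨b0, hb0, e⟩
    · refine ⟨b0 * zC, by rw [map_mul, hb0, h.pi_z, mul_one], ?_⟩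
      rw [(h.z_comm b0).symm.mul_pow, e, pow_succ, pow_two, h.z_sq, one_mul, h.z_sq]
  have hcomb : ∀ x, π x r = r → π x s = s → π x p = p → Commute b x := fun x h1 h2 h3 => by
    refine h.odd_commute (m := 3) ⟨1, rfl⟩ (by rw [hb3, map_one]) ?_
    rw [hb]
    refine Perm.Disjoint.commute fun w => ?_
    by_cases hw' : π x w = w
    · exact Or.inr hw'
    · exact Or.inl (hco w (fun e => hw' (by rw [e, h1])) (fun e => hw' (by rw [e, h2])) (fun e => hw' (by rw [e, h3])))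
  have hba : Commute b a := hcomb _ ra sa (hlow _ p hp8)
  have hba' : Commute b a' := hcomb _ ra' sa' (hlow _ p hp8)
  have hbt : t * b * t⁻¹ = b⁻¹ := by
    refine h.three_unique ?_ (by rw [conj_pow, hb3, mul_one, mul_inv_cancel]) (by rw [inv_pow, hb3, inv_one])
    rw [map_mul, map_mul, map_inv, map_inv, hb, hc, CfsgAltCover.Anti.conj_pair (π t) r s s p, htr, hts, htp]
    ext w : 1
    rw [mul_inv_rev, swap_inv, swap_inv]
    by_cases h1 : w = r
    · simp [h1, Perm.mul_apply, swap_apply_def, hrs, hrp, hsp, hrs.symm, hrp.symm, hsp.symm]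
    by_cases h2 : w = s
    · simp [h2, Perm.mul_apply, swap_apply_def, hrs, hrp, hsp, hrs.symm, hrp.symm, hsp.symm]
    by_cases h3 : w = p
    · simp [h3, Perm.mul_apply, swap_apply_def, hrs, hrp, hsp, hrs.symm, hrp.symm, hsp.symm]
    simp [Perm.mul_apply, swap_apply_def, h1, h2, h3]
  -- in the group
  set A : G := (a : G) with hAdef
  set A' : G := (a' : G) with hA'def
  set B : G := (b : G) with hBdef
  set T : G := (t : G) with hTdef
  set Sg : G := φ (evW gM Dat.wS) with hSg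
  set M0 : G := φ (evW gM Dat.wM0) with hM0
  set M1 : G := φ (evW gM Dat.wM1) with hM1
  set M2 : G := φ (evW gM Dat.wM2) with hM2
  have hBZ : Commute B z := Subgroup.mem_centralizer_singleton_iff.mp b.2
  have hBA : Commute B A := hba.map (centralizer ({z} : Set G)).subtype
  have hBA' : Commute B A' := hba'.map (centralizer ({z} : Set G)).subtype
  have hBT : T * B * T⁻¹ = B⁻¹ := congrArg Subtype.val hbt
  have tr2 : ∀ {u v u' v' : List ℕ}, eqW (u ++ v) (u' ++ v') = true →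
      φ (evW gM u) * φ (evW gM v) = φ (evW gM u') * φ (evW gM v') := fun e => by
    rw [← map_mul, ← map_mul, ← Enum.evW_append, ← Enum.evW_append, transfer e]
  have c1A : Commute M1 A := by rw [hA]; exact tr2 c1a
  have c1A' : Commute M1 A' := by rw [hA']; exact tr2 c1a'
  have c2A : Commute M2 A := by rw [hA]; exact tr2 c2a
  have c2A' : Commute M2 A' := by rw [hA']; exact tr2 c2a'
  have hM12 : Commute M1 M2 := tr2 c12
  have hZ1 : z * M1 * z⁻¹ = M1⁻¹ := by
    rw [mul_inv_eq_iff_eq_mul, ← hZ, hM1, tr2 zm1, Enum.evW_winv, map_inv]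
  have hZ2 : z * M2 * z⁻¹ = M2⁻¹ := by
    rw [mul_inv_eq_iff_eq_mul, ← hZ, hM2, tr2 zm2, Enum.evW_winv, map_inv]
  have hT1 : T * M1 * T⁻¹ = M1⁻¹ := by
    rw [mul_inv_eq_iff_eq_mul, hT, hM1, tr2 tm1, Enum.evW_winv, map_inv]
  have hT2 : Commute T M2 := by rw [hT]; exact tr2 tm2
  have h13 : M1 ^ 3 = 1 := by
    rw [pow_three', hM1, ← map_mul, ← map_mul, ← Enum.evW_append, ← Enum.evW_append, transfer m13, Enum.evW_nil,
      map_one]
  have h23 : M2 ^ 3 = 1 := by
    rw [pow_three', hM2, ← map_mul, ← map_mul, ← Enum.evW_append, ← Enum.evW_append, transfer m23, Enum.evW_nil,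
      map_one]
  have n1 : M1 ≠ 1 := fun e => transfer_ne hφ m1_1 (by rw [← hM1, e, Enum.evW_nil, map_one])
  have n2 : M2 ≠ 1 := fun e => transfer_ne hφ m2_1 (by rw [← hM2, e, Enum.evW_nil, map_one])
  have n21 : M2 ≠ M1 := fun e => transfer_ne hφ m21 (by rw [← hM2, ← hM1, e])
  have n21' : M2 ≠ M1⁻¹ := fun e => transfer_ne hφ m21' (by rw [← hM2, Enum.evW_winv, map_inv, ← hM1, e])
  have hSZ : Sg⁻¹ * z * Sg = T := by
    rw [mul_assoc, inv_mul_eq_iff_eq_mul, ← hZ, hT, hSg, tr2 st]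
  have hSZ' : Sg * z * Sg⁻¹ = z * T := by
    rw [mul_inv_eq_iff_eq_mul, ← hZ, hT, hSg, ← map_mul, ← map_mul, ← map_mul, ← Enum.evW_append,
      ← Enum.evW_append, ← Enum.evW_append, transfer sz]
  have hM0e : M0 = A * A'⁻¹ := by
    rw [hA, hA', hM0, Dat.wM0, Enum.evW_append, map_mul, Enum.evW_winv, map_inv]
  have hS0 : Sg * M0 * Sg⁻¹ = M1 := by
    simp only [hSg, hM0, hM1, Dat.wM1, conjW, Enum.evW_append, Enum.evW_winv, map_mul, map_inv]
  have hS1 : Sg * M1 * Sg⁻¹ = M2 := by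
    simp only [hSg, hM1, hM2, Dat.wM2, conjW, Enum.evW_append, Enum.evW_winv, map_mul, map_inv]
  have hS2 : Sg * M2 * Sg⁻¹ = M0 := by
    rw [hM0, ← transfer s20]
    simp only [hSg, hM2, conjW, Enum.evW_append, Enum.evW_winv, map_mul, map_inv]
  have hSA : Commute Sg (A * A') := by
    rw [hA, hA', hSg, ← map_mul, ← Enum.evW_append]
    exact tr2 csaa
  have hZA : Commute z A := (Subgroup.mem_centralizer_singleton_iff.mp a.2).symm
  have hZA' : Commute z A' := (Subgroup.mem_centralizer_singleton_iff.mp a'.2).symm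
  have hAA' : Commute A A' := by
    rw [hA, hA']
    exact tr2 caa
  -- the nine elements
  set mm : ℕ → ℕ → G := fun i j => M1 ^ i * M2 ^ j with hmm
  have mm_mul : ∀ i j k l, mm i j * mm k l = mm (i + k) (j + l) := fun i j k l => by
    simp only [hmm, pow_add]
    exact (hM12.symm.pow_pow j k).mul_mul_mul_comm _ _
  have mm_mod : ∀ i j, mm i j = mm (i % 3) (j % 3) := fun i j => by
    simp only [hmm]
    rw [← pow_eq_pow_mod i h13, ← pow_eq_pow_mod j h23]
  have mm_one : ∀ i < 3, ∀ j < 3, mm i j = 1 → i = 0 ∧ j = 0 := by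
    intro i hi j hj e
    simp only [hmm] at e
    have i1 : M1⁻¹ = M1 ^ 2 := inv_eq_of_mul_eq_one_right (by rw [← pow_succ', h13])
    interval_cases i <;> interval_cases j <;> (try simp only [pow_zero, pow_one, one_mul, mul_one] at e)
    · exact ⟨rfl, rfl⟩
    · exact absurd e n2
    · exact absurd (by have h' := h23; rw [pow_succ, e, one_mul] at h'; exact h') n2
    · exact absurd e n1
    · exact absurd (eq_inv_of_mul_eq_one_right e) n21'
    · refine absurd ?_ n21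
      calc M2 = M1 * M2 ^ 2 * M2 := by rw [e, one_mul]
        _ = M1 := by rw [mul_assoc, ← pow_succ, h23, mul_one]
    · exact absurd (by have h' := h13; rw [pow_succ, e, one_mul] at h'; exact h') n1
    · refine absurd ?_ n21
      calc M2 = M1 * (M1 ^ 2 * M2) := by rw [← mul_assoc, ← pow_succ', h13, one_mul]
        _ = M1 := by rw [e, mul_one]
    · refine absurd ?_ n21'
      rw [← (hM12).mul_pow] at e
      have e1 : M1 * M2 = 1 := by
        calc M1 * M2 = (M1 * M2) ^ 3 := by rw [pow_succ, e, one_mul]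
          _ = 1 := by rw [hM12.mul_pow, h13, h23, one_mul]
      exact eq_inv_of_mul_eq_one_right e1
  let F : Fin 3 × Fin 3 → G := fun v => mm v.1 v.2
  have F_inj : Function.Injective F := by
    rintro ⟨i, j⟩ ⟨k, l⟩ e
    have e' : mm (i + 2 * k) (j + 2 * l) = 1 := by
      rw [← mm_mul, show mm i j = mm k l from e, mm_mul, mm_mod, show (k + 2 * k : ℕ) % 3 = 0 by omega,
        show (l + 2 * l : ℕ) % 3 = 0 by omega]
      simp [hmm]
    rw [mm_mod] at e'
    obtain ⟨e1, e2⟩ := mm_one _ (Nat.mod_lt _ (by omega)) _ (Nat.mod_lt _ (by omega)) e'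
    have := i.2; have := j.2; have := k.2; have := l.2
    exact Prod.ext (Fin.ext (show (i : ℕ) = k by omega)) (Fin.ext (show (j : ℕ) = l by omega))
  have F_mem : ∀ v, F v ∈ invSet z A A' := fun v => by
    refine ⟨?_, ?_, (c1A.pow_left _).mul_left (c2A.pow_left _), (c1A'.pow_left _).mul_left (c2A'.pow_left _)⟩
    · show z * (M1 ^ (v.1 : ℕ) * M2 ^ (v.2 : ℕ)) * z⁻¹ = _
      rw [show z * (M1 ^ (v.1 : ℕ) * M2 ^ (v.2 : ℕ)) * z⁻¹ = (z * M1 ^ (v.1 : ℕ) * z⁻¹) * (z * M2 ^ (v.2 : ℕ) * z⁻¹)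
        by group, ← conj_pow, ← conj_pow, hZ1, hZ2, inv_pow, inv_pow, mul_inv_rev]
      exact (hM12.pow_pow _ _).inv_inv.eq
    · show (M1 ^ (v.1 : ℕ) * M2 ^ (v.2 : ℕ)) ^ 3 = 1
      rw [(hM12.pow_pow _ _).mul_pow, ← pow_mul, mul_comm, pow_mul, h13, one_pow, ← pow_mul, mul_comm, pow_mul, h23,
        one_pow, one_mul]
  have hconj : ∀ f : centralizer ({z} : Set G), f * f = 1 → f ≠ 1 → f ≠ zC → ∃ g : G, g * z * g⁻¹ = f := by
    intro f h2 h1 hfz
    have hu2 : evC Dat.wT * evC Dat.wT = 1 := hψinj (by rw [map_mul, map_one, ← ht, ett])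
    have hu1 : evC Dat.wT ≠ 1 := fun e => hne1 cT t_1 (by rw [e, map_one])
    have hut : evC Dat.wT ≠ tauC := fun e => etz (by rw [ht, e, htau])
    obtain ⟨d, hd⟩ := h.conj_eight hn9 hn10 hψinj hrange htau hu2 hu1 hut h2 h1 hfz
    obtain ⟨g, hg⟩ := S.conj_t hu2 hu1
    refine ⟨(d : G)⁻¹ * g, ?_⟩
    have hd' : (d : G) * f * (d : G)⁻¹ = g * z * g⁻¹ := by
      rw [hg]; exact congrArg Subtype.val hd
    calc (d : G)⁻¹ * g * z * ((d : G)⁻¹ * g)⁻¹ = (d : G)⁻¹ * (g * z * g⁻¹) * d := by group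
      _ = f := by rw [← hd']; group
  have F_all : ∀ w ∈ invSet z A A', ∃ v, F v = w := by
    have hle := invSet_le hzC h hn9 hn10 hconj ea3 hac ea3' hac' hdis
    have hsub : Set.range F ⊆ invSet z A A' := by rintro _ ⟨v, rfl⟩; exact F_mem v
    have hcard : (Set.range F).ncard = 9 := by
      rw [← Nat.card_coe_set_eq, Nat.card_range_of_injective F_inj, Nat.card_eq_fintype_card]
      rfl
    have := Set.eq_of_subset_of_ncard_le hsub (by rw [hcard]; exact hle) (Set.toFinite _)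
    exact fun w hw' => this.ge hw'
  -- conjugation by the three-cycle
  have hBinv : ∀ w ∈ invSet z A A', B * w * B⁻¹ ∈ invSet z A A' := fun w ⟨w1, w2, w3, w4⟩ => by
    refine ⟨?_, by rw [conj_pow, w2, mul_one, mul_inv_cancel], (hBA.mul_left w3).mul_left hBA.inv_left,
      (hBA'.mul_left w4).mul_left hBA'.inv_left⟩
    calc z * (B * w * B⁻¹) * z⁻¹ = (z * B) * w * (z * B)⁻¹ := by group
      _ = B * (z * w * z⁻¹) * B⁻¹ := by rw [← hBZ.eq]; group
      _ = _ := by rw [w1]; group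
  obtain ⟨⟨p1, q1⟩, hP⟩ := F_all _ (hBinv _ (F_mem (1, 0)))
  obtain ⟨⟨r1, s1⟩, hQm⟩ := F_all _ (hBinv _ (F_mem (0, 1)))
  have hF10 : F (1, 0) = M1 := by show M1 ^ 1 * M2 ^ 0 = M1; simp
  have hF01 : F (0, 1) = M2 := by show M1 ^ 0 * M2 ^ 1 = M2; simp
  rw [hF10] at hP
  rw [hF01] at hQm
  let f : Fin 3 × Fin 3 → Fin 3 × Fin 3 := fun v => (p1 * v.1 + r1 * v.2, q1 * v.1 + s1 * v.2)
  have hFadd : ∀ i j : ℕ, ∀ v : Fin 3 × Fin 3, (i : ℕ) % 3 = v.1 → j % 3 = v.2 → mm i j = F v := fun i j v e1 e2 => by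
    rw [mm_mod, e1, e2]
  have mm_pow : ∀ i j k : ℕ, mm i j ^ k = mm (i * k) (j * k) := fun i j k => by
    simp only [hmm]
    rw [(hM12.pow_pow i j).mul_pow, ← pow_mul, ← pow_mul]
  have hf : ∀ v, B * F v * B⁻¹ = F (f v) := fun v => by
    show B * (M1 ^ (v.1 : ℕ) * M2 ^ (v.2 : ℕ)) * B⁻¹ = _
    rw [show B * (M1 ^ (v.1 : ℕ) * M2 ^ (v.2 : ℕ)) * B⁻¹ = (B * M1 ^ (v.1 : ℕ) * B⁻¹) * (B * M2 ^ (v.2 : ℕ) * B⁻¹)
      by group, ← conj_pow, ← conj_pow, ← hP, ← hQm]
    show mm p1 q1 ^ (v.1 : ℕ) * mm r1 s1 ^ (v.2 : ℕ) = _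
    rw [mm_pow, mm_pow, mm_mul]
    refine hFadd _ _ _ ?_ ?_ <;> simp [f, Fin.val_add, Fin.val_mul, Nat.add_mod, Nat.mul_mod]
  have hfT : ∀ v : Fin 3 × Fin 3, T * F v * T⁻¹ = F (2 * v.1, v.2) := fun v => by
    show T * (M1 ^ (v.1 : ℕ) * M2 ^ (v.2 : ℕ)) * T⁻¹ = _
    rw [show T * (M1 ^ (v.1 : ℕ) * M2 ^ (v.2 : ℕ)) * T⁻¹ = (T * M1 ^ (v.1 : ℕ) * T⁻¹) * (T * M2 ^ (v.2 : ℕ) * T⁻¹)
      by group, ← conj_pow, hT1, (hT2.pow_right _).eq, mul_inv_cancel_right,
      show M1⁻¹ = M1 ^ 2 from inv_eq_of_mul_eq_one_right (by rw [← pow_succ', h13]), ← pow_mul]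
    exact hFadd _ _ _ (by simp [Fin.val_mul]) (Nat.mod_eq_of_lt v.2.isLt)
  have hB3 : B ^ 3 = 1 := by rw [hBdef, ← Subgroup.coe_pow, hb3]; rfl
  have hf3 : ∀ v, f (f (f v)) = v := fun v => F_inj (by
    rw [← hf, ← hf, ← hf]
    calc B * (B * (B * F v * B⁻¹) * B⁻¹) * B⁻¹ = B ^ 3 * F v * (B ^ 3)⁻¹ := by rw [pow_three]; group
      _ = F v := by rw [hB3, one_mul, inv_one, mul_one])
  have hBTB : B * T * B = T := by
    rw [mul_inv_eq_iff_eq_mul] at hBT
    rw [mul_assoc, hBT, mul_inv_cancel_left]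
  have hff : ∀ v : Fin 3 × Fin 3, f (2 * (f v).1, (f v).2) = (2 * v.1, v.2) := fun v => F_inj (by
    rw [← hf, ← hfT, ← hf, ← hfT]
    calc B * (T * (B * F v * B⁻¹) * T⁻¹) * B⁻¹ = (B * T * B) * F v * (B * T * B)⁻¹ := by group
      _ = _ := by rw [hBTB])
  have hpB : B ≠ 1 → ∀ k : ℕ, B ≠ M0 ^ k := fun _ k e => by
    have e' : b = (a * a'⁻¹) ^ k := Subtype.ext (by
      rw [← hBdef, e, hM0e, Subgroup.coe_pow, Subgroup.coe_mul, Subgroup.coe_inv])
    have h8 : π b p = p := by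
      rw [e', map_pow, Perm.pow_apply_eq_self_of_apply_eq_self]
      rw [map_mul, map_inv, Perm.mul_apply, Perm.inv_eq_iff_eq.mpr (hlow _ p hp8).symm]
      exact hlow _ p hp8
    rw [hb, hcp] at h8
    exact hrp h8
  have hB1 : B ≠ 1 := fun e => by
    have h8 : π b p = p := by rw [show b = 1 from Subtype.ext e, map_one]; rfl
    rw [hb, hcp] at h8
    exact hrp h8
  have hCB : Commute B M0 := hM0e ▸ hBA.mul_right hBA'.inv_right
  have hBAA : Commute B (A * A') := hBA.mul_right hBA'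
  -- the common centraliser of the two three-cycles
  have hA3 : A ^ 3 = 1 := by rw [hAdef, ← Subgroup.coe_pow, ea3]; rfl
  have hA3' : A' ^ 3 = 1 := by rw [hA'def, ← Subgroup.coe_pow, ea3']; rfl
  have hboth : ∀ w, Commute w M0 → Commute w (A * A') → Commute w A ∧ Commute w A' := by
    intro w h1 h2
    have e1 : (M0 * (A * A')) ^ 2 = A := by
      rw [hM0e, hAA'.eq, mul_assoc, inv_mul_cancel_left, pow_two,
        show A * A * (A * A) = A ^ 3 * A by simp [pow_three, mul_assoc], hA3, one_mul]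
    refine ⟨e1 ▸ (h1.mul_right h2).pow_right 2, ?_⟩
    have e2 : (M0⁻¹ * (A * A')) ^ 2 = A' := by
      rw [hM0e, mul_inv_rev, inv_inv, mul_assoc, inv_mul_cancel_left, pow_two,
        show A' * A' * (A' * A') = A' ^ 3 * A' by simp [pow_three, mul_assoc], hA3', one_mul]
    exact e2 ▸ (h1.inv_right.mul_right h2).pow_right 2
  have hZ0 : Commute z M0 := hM0e ▸ hZA.mul_right hZA'.inv_right
  have hinvc : ∀ x y w : G, x * w * x⁻¹ = w⁻¹ → y = x * z ∨ y = z * x → Commute w z → y * w * y⁻¹ = w⁻¹ := by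
    intro x y w e hy hw'
    rcases hy with rfl | rfl
    · rw [show x * z * w * (x * z)⁻¹ = x * (z * w * z⁻¹) * x⁻¹ by group, hw'.symm.eq, mul_inv_cancel_right, e]
    · rw [show z * x * w * (z * x)⁻¹ = z * (x * w * x⁻¹) * z⁻¹ by group, e, hw'.inv_left.symm.eq, mul_inv_cancel_right]
  rcases exps p1 q1 r1 s1 (hf3 _) (hf3 _) (hff (1, 0)) (hff (0, 1)) with ⟨rfl, rfl⟩ | ⟨rfl, rfl⟩
  · -- it centralises the first
    have hBM1 : Commute B M1 := by
      rw [hF10] at hP
      exact mul_inv_eq_iff_eq_mul.mp hP.symm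
    have hb0 : Commute (Sg⁻¹ * B * Sg) M0 := by
      show _ * _ = _ * _
      calc Sg⁻¹ * B * Sg * M0 = Sg⁻¹ * (B * (Sg * M0 * Sg⁻¹)) * Sg := by group
        _ = Sg⁻¹ * ((Sg * M0 * Sg⁻¹) * B) * Sg := by rw [hS0, hBM1.eq]
        _ = _ := by group
    have hb1 : Commute (Sg⁻¹ * B * Sg) (A * A') := (hSA.inv_left.mul_left hBAA).mul_left hSA
    obtain ⟨u1, u2⟩ := hboth _ hb0 hb1
    obtain ⟨⟨i, j⟩, hv⟩ := F_all (Sg⁻¹ * B * Sg) ⟨by
      calc z * (Sg⁻¹ * B * Sg) * z⁻¹ = Sg⁻¹ * ((Sg * z * Sg⁻¹) * B * (Sg * z * Sg⁻¹)⁻¹) * Sg := by group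
        _ = _ := by rw [hSZ', hinvc T _ B hBT (Or.inr rfl) hBZ]; group, by
      rw [show Sg⁻¹ * B * Sg = Sg⁻¹ * B * Sg⁻¹⁻¹ by group, conj_pow, hB3, mul_one, mul_inv_cancel], u1, u2⟩
    have hBv : B = M2 ^ (i : ℕ) * M0 ^ (j : ℕ) := by
      calc B = Sg * (Sg⁻¹ * B * Sg) * Sg⁻¹ := by group
        _ = Sg * (M1 ^ (i : ℕ) * M2 ^ (j : ℕ)) * Sg⁻¹ := by rw [← hv]
        _ = (Sg * M1 * Sg⁻¹) ^ (i : ℕ) * (Sg * M2 * Sg⁻¹) ^ (j : ℕ) := by rw [conj_pow, conj_pow]; group
        _ = _ := by rw [hS1, hS2]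
    have hi : M2⁻¹ ^ (i : ℕ) = M2 ^ (i : ℕ) := by
      have e : z * B * z⁻¹ = B := mul_inv_eq_iff_eq_mul.mpr hBZ.symm.eq
      rw [hBv, show z * (M2 ^ (i : ℕ) * M0 ^ (j : ℕ)) * z⁻¹ = (z * M2 ^ (i : ℕ) * z⁻¹) * (z * M0 ^ (j : ℕ) * z⁻¹)
        by group, ← conj_pow, hZ2, (hZ0.pow_right _).eq, mul_inv_cancel_right] at e
      exact mul_right_cancel e
    have hi0 : (i : ℕ) = 0 := by
      have e : mm 0 (2 * i) = mm 0 i := by
        simp only [hmm, pow_zero, one_mul]
        rw [pow_mul, ← show M2⁻¹ = M2 ^ 2 from inv_eq_of_mul_eq_one_right (by rw [← pow_succ', h23]), hi]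
      have := congrArg Prod.snd (F_inj (show F (0, 2 * i) = F (0, i) from
        (hFadd 0 (2 * i) (0, 2 * i) rfl (by simp [Fin.val_mul])).symm.trans e))
      simp only at this
      revert this
      fin_cases i <;> simp
    rw [hi0, pow_zero, one_mul] at hBv
    exact hpB hB1 _ hBv
  · -- it centralises the second
    have hBM2 : Commute B M2 := by
      rw [hF01] at hQm
      exact mul_inv_eq_iff_eq_mul.mp hQm.symm
    have hb0 : Commute (Sg * B * Sg⁻¹) M0 := by
      rw [← hS2]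
      show _ * _ = _ * _
      calc Sg * B * Sg⁻¹ * (Sg * M2 * Sg⁻¹) = Sg * (B * M2) * Sg⁻¹ := by group
        _ = Sg * (M2 * B) * Sg⁻¹ := by rw [hBM2.eq]
        _ = _ := by group
    have hb1 : Commute (Sg * B * Sg⁻¹) (A * A') := (hSA.mul_left hBAA).mul_left hSA.inv_left
    obtain ⟨u1, u2⟩ := hboth _ hb0 hb1
    obtain ⟨⟨i, j⟩, hv⟩ := F_all (Sg * B * Sg⁻¹) ⟨by
      calc z * (Sg * B * Sg⁻¹) * z⁻¹ = Sg * ((Sg⁻¹ * z * Sg) * B * (Sg⁻¹ * z * Sg)⁻¹) * Sg⁻¹ := by group
        _ = _ := by rw [hSZ, hBT]; group, by rw [conj_pow, hB3, mul_one, mul_inv_cancel], u1, u2⟩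
    have hBv : B = M0 ^ (i : ℕ) * M1 ^ (j : ℕ) := by
      have e0 : Sg⁻¹ * M1 * Sg⁻¹⁻¹ = M0 := by rw [← hS0]; group
      have e1 : Sg⁻¹ * M2 * Sg⁻¹⁻¹ = M1 := by rw [← hS1]; group
      calc B = Sg⁻¹ * (Sg * B * Sg⁻¹) * Sg⁻¹⁻¹ := by group
        _ = Sg⁻¹ * (M1 ^ (i : ℕ) * M2 ^ (j : ℕ)) * Sg⁻¹⁻¹ := by rw [← hv]
        _ = (Sg⁻¹ * M1 * Sg⁻¹⁻¹) ^ (i : ℕ) * (Sg⁻¹ * M2 * Sg⁻¹⁻¹) ^ (j : ℕ) := by rw [conj_pow, conj_pow]; group
        _ = _ := by rw [e0, e1]
    have hj : M1⁻¹ ^ (j : ℕ) = M1 ^ (j : ℕ) := by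
      have e : z * B * z⁻¹ = B := mul_inv_eq_iff_eq_mul.mpr hBZ.symm.eq
      rw [hBv, show z * (M0 ^ (i : ℕ) * M1 ^ (j : ℕ)) * z⁻¹ = (z * M0 ^ (i : ℕ) * z⁻¹) * (z * M1 ^ (j : ℕ) * z⁻¹)
        by group, ← conj_pow (i := (j : ℕ)), hZ1, (hZ0.pow_right _).eq, mul_inv_cancel_right] at e
      exact mul_left_cancel e
    have hj0 : (j : ℕ) = 0 := by
      have e : mm (2 * j) 0 = mm j 0 := by
        simp only [hmm, pow_zero, mul_one]
        rw [pow_mul, ← show M1⁻¹ = M1 ^ 2 from inv_eq_of_mul_eq_one_right (by rw [← pow_succ', h13]), hj]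
      have := congrArg Prod.fst (F_inj (show F (2 * j, 0) = F (j, 0) from
        (hFadd (2 * j) 0 (2 * j, 0) (by simp [Fin.val_mul]) rfl).symm.trans e))
      simp only at this
      revert this
      fin_cases j <;> simp
    rw [hj0, pow_zero, mul_one] at hBv
    exact hpB hB1 _ hBv

end CfsgAltCentInv
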