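import Cfsg.Agent.Lib.McLChar.ModelFacts

/-!
Elements of order 3 in the McLaughlin group around a four-group, by words.
-/

set_option autoImplicit false
set_option maxRecDepth 100000

namespace CfsgAltCentInv.Dat

open CfsgMcLChar CfsgLib.McLInvol
open CfsgMcLChar.Enum (evW winv)

/-- The first three-cycle. -/
def wA : List ℕ := [0, 3, 4, 2]
/-- An element of order 5 commuting with the first three-cycle. -/
def wQ : List ℕ := [2, 4, 0, 2]
/-- The second three-cycle. -/
def wA' : List ℕ := [0, 3, 0, 5, 0, 2]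
/-- An element of order 5 commuting with the second three-cycle. -/
def wQ' : List ℕ := [0, 0, 2, 5, 0, 3]
/-- The involution exchanging the three-cycles. -/
def wT : List ℕ := [2, 4, 4, 3, 4]
/-- The element cycling the four-group. -/
def wS : List ℕ := [3, 1, 5, 0, 0, 6, 0, 3, 4, 2, 1]
/-- The central involution. -/
def wZ : List ℕ := [2, 4, 2, 4, 2, 4, 2, 4]

/-- The quotient of the two three-cycles. -/
def wM0 : List ℕ := wA ++ winv wA'
/-- Its first conjugate. -/
def wM1 : List ℕ := conjW wS wM0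
/-- Its second conjugate. -/
def wM2 : List ℕ := conjW wS wM1

/-- Two words commute. -/
def com (u v : List ℕ) : Bool := eqW (u ++ v) (v ++ u)

/-- The second word is inverted by the first. -/
def inverts (u v : List ℕ) : Bool := eqW (u ++ v) (winv v ++ u)

theorem checks :
    ([wA, wQ, wA', wQ', wT, wZ].all cWord = true ∧
    eqW (wA ++ wA ++ wA) [] = true ∧ eqW (wA' ++ wA' ++ wA') [] = true ∧
    eqW (wQ ++ wQ ++ wQ ++ wQ ++ wQ) [] = true ∧ eqW (wQ' ++ wQ' ++ wQ' ++ wQ' ++ wQ') [] = true ∧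
    eqW (wT ++ wT) [] = true ∧ eqW wT [] = false ∧ eqW wT wZ = false ∧
    eqW wA [] = false ∧ eqW wA' [] = false ∧ eqW wQ [] = false ∧ eqW wQ' [] = false ∧
    eqW wA' wA = false ∧ eqW wA' (winv wA) = false ∧
    com wA wQ = true ∧ com wA' wQ' = true ∧ com wA wA' = true ∧
    eqW (wT ++ wA) (wA' ++ wT) = true) ∧
    (eqW (wS ++ wT) (wZ ++ wS) = true ∧
    eqW (wS ++ wZ) (wZ ++ wT ++ wS) = true ∧
    eqW (wS ++ wZ ++ wT) (wT ++ wS) = true ∧
    com wS (wA ++ wA') = true ∧ eqW (conjW wS wM2) wM0 = true ∧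
    com wM1 wA = true ∧ com wM1 wA' = true ∧ com wM2 wA = true ∧ com wM2 wA' = true ∧ com wM1 wM2 = true ∧
    inverts wZ wM1 = true ∧ inverts wZ wM2 = true ∧ inverts wT wM1 = true ∧ com wT wM2 = true ∧
    eqW (wM1 ++ wM1 ++ wM1) [] = true ∧ eqW (wM2 ++ wM2 ++ wM2) [] = true ∧
    eqW wM1 [] = false ∧ eqW wM2 [] = false ∧ eqW wM2 wM1 = false ∧ eqW wM2 (winv wM1) = false) := by
  decide +kernel

theorem z_el : eqW (el 0 1) wZ = true := by decide +kernel

theorem tau_word : evW gM wZ = tau := by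
  rw [← eqW_iff.mp z_el, ← evC_val (cWord_el (by omega : 0 < 2) 1)]
  exact congrArg Subtype.val (Ev_one 0 (by omega))

end CfsgAltCentInv.Dat
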